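import Cfsg.Agent.Lib.HK.Defs

/-! HK, package CLS: counting conjugacy classes (plans/HK.md). -/

set_option autoImplicit false
set_option linter.unusedSectionVars false

namespace CfsgLib.HK
open Subgroup MulAction Cfsg CfsgLib.Base
open Cfsg.Agent.S4190 (kk cnt idx_le kSub kAb kQuot kk_pos gen)
open scoped commutatorElement Pointwise

variable {G : Type*} [Group G] [Finite G]

theorem kin_pos (N : Subgroup G) : 1 ≤ kin N := by
  have : Finite (ConjClasses G) := Finite.of_surjective _ ConjClasses.mk_surjective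
  exact (Set.ncard_pos (Set.toFinite _)).2 ⟨_, 1, one_mem N, rfl⟩

theorem cls_diff (N : Subgroup G) :
    (ConjClasses.mk '' (N : Set G) \ {ConjClasses.mk 1}).ncard = kin N - 1 :=
  Set.ncard_sdiff_singleton_of_mem ⟨1, one_mem N, rfl⟩

theorem kin_add (N : Subgroup G) [N.Normal] : kin N + kk (G ⧸ N) ≤ kk G + 1 := by
  classical
  let π := QuotientGroup.mk' N
  have hπ := QuotientGroup.mk'_surjective N
  have : Finite (ConjClasses G) := Finite.of_surjective _ ConjClasses.mk_surjective
  have : Finite (ConjClasses (G ⧸ N)) := Finite.of_surjective _ ConjClasses.mk_surjective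
  let σ : ConjClasses (G ⧸ N) → ConjClasses G := fun c => if c = ConjClasses.mk 1 then
    ConjClasses.mk 1 else Function.surjInv (ConjClasses.map_surjective hπ) c
  have hσ : ∀ c, ConjClasses.map π (σ c) = c := fun c => by
    by_cases h : c = ConjClasses.mk 1
    · simp only [σ, if_pos h]; rw [h]; rfl
    · simp only [σ, if_neg h]; exact Function.surjInv_eq _ _
  have h2 : Nat.card ↥(ConjClasses.mk '' (N : Set G) \ {ConjClasses.mk 1}) + kk (G ⧸ N) ≤ kk G := by
    rw [← Nat.card_sum]
    refine Nat.card_le_card_of_injective (Sum.elim (fun o => o.1) σ) (Function.Injective.sumElim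
      Subtype.val_injective (Function.LeftInverse.injective hσ) ?_)
    rintro ⟨_, ⟨x, hx, rfl⟩, h1⟩ c h
    have h' : ConjClasses.mk x = σ c := h
    have e : c = ConjClasses.mk 1 := by
      rw [← hσ c, ← h']
      exact congrArg ConjClasses.mk ((QuotientGroup.eq_one_iff _).2 hx)
    simp only [σ, if_pos e] at h'
    exact h1 h'
  rw [Nat.card_coe_set_eq, cls_diff] at h2
  have := kin_pos N
  omega

theorem card_le_kin' (N : Subgroup G) :
    Nat.card N + (centralizer (N : Set G)).index ≤ kin N * (centralizer (N : Set G)).index + 1 := by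
  classical
  have : Finite (ConjClasses G) := Finite.of_surjective _ ConjClasses.mk_surjective
  have h1 : Nat.card ↥((N : Set G) \ {1}) ≤
      Nat.card ↥(ConjClasses.mk '' (N : Set G) \ {ConjClasses.mk 1}) *
        (centralizer (N : Set G)).index := by
    rcases isEmpty_or_nonempty ↥((N : Set G) \ {1}) with hι | hι
    · simp
    let q : ↥((N : Set G) \ {1}) → ConjClasses G := fun x => ConjClasses.mk x.1
    have hb : ∀ x, ∃ g : G, g * (Function.invFun q (q x)).1 * g⁻¹ = x.1 := fun x =>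
      isConj_iff.1 (ConjClasses.mk_eq_mk_iff_isConj.1 (Function.invFun_eq (f := q) ⟨x, rfl⟩))
    choose g hg using hb
    rw [index, ← Nat.card_prod]
    refine Nat.card_le_card_of_injective (fun x => ((⟨q x, ⟨x.1, x.2.1, rfl⟩, fun e =>
      x.2.2 (isConj_one_left.1 (ConjClasses.mk_eq_mk_iff_isConj.1 e))⟩ :
        ↥(ConjClasses.mk '' (N : Set G) \ {ConjClasses.mk 1})),
      (QuotientGroup.mk (g x) : G ⧸ centralizer (N : Set G)))) fun x y h => ?_
    obtain ⟨e1, e2⟩ := Prod.mk.inj h
    have e3 : q x = q y := congrArg Subtype.val e1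
    have e4 := mem_centralizer_iff.1 (QuotientGroup.eq.1 e2) _ (Function.invFun q (q x)).2.1
    apply Subtype.ext
    rw [← hg x, ← hg y, ← e3]
    set r : G := (Function.invFun q (q x)).1
    calc g x * r * (g x)⁻¹ = g x * (r * ((g x)⁻¹ * g y)) * (g y)⁻¹ := by group
      _ = g x * ((g x)⁻¹ * g y * r) * (g y)⁻¹ := by rw [e4]
      _ = _ := by group
  rw [Nat.card_coe_set_eq, Nat.card_coe_set_eq, cls_diff,
    Set.ncard_sdiff_singleton_of_mem (by simp : (1 : G) ∈ (N : Set G))] at h1
  have h2 : (N : Set G).ncard = Nat.card N := rfl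
  rw [h2] at h1
  have h3 := kin_pos N
  have h4 : 0 < Nat.card N := Nat.card_pos
  obtain ⟨k, hk⟩ : ∃ k, kin N = k + 1 := ⟨kin N - 1, by omega⟩
  rw [hk, Nat.add_sub_cancel] at h1
  rw [hk, add_mul, one_mul]
  omega

theorem card_le_kin (N : Subgroup G) : Nat.card N ≤ kin N * (centralizer (N : Set G)).index := by
  have h1 := card_le_kin' N
  have h2 : (centralizer (N : Set G)).index ≠ 0 := index_ne_zero_of_finite
  omega

theorem kk_comm (h : ∀ a b : G, a * b = b * a) : kk G = Nat.card G := by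
  refine (Nat.card_congr (Equiv.ofBijective ConjClasses.mk
    ⟨fun a b e => ?_, ConjClasses.mk_surjective⟩)).symm
  obtain ⟨g, hg⟩ := isConj_iff.1 (ConjClasses.mk_eq_mk_iff_isConj.1 e)
  rw [← hg, h g a, mul_inv_cancel_right]

/-- the order of the centralizer of a representative -/
noncomputable def cls_c (c : ConjClasses G) : ℕ := Nat.card (centralizer {c.out})

theorem cls_c_pos (c : ConjClasses G) : 0 < cls_c c := Nat.card_pos

theorem cls_size (x : G) :
    (ConjClasses.mk x).carrier.ncard * Nat.card (centralizer {x}) = Nat.card G := by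
  rw [← ConjAct.orbit_eq_carrier_conjClasses, ← index_stabilizer,
    nat_card_centralizer_nat_card_stabilizer, index_mul_card]
  rfl

theorem cls_size' (c : ConjClasses G) : c.carrier.ncard * cls_c c = Nat.card G := by
  have := cls_size c.out
  rwa [show ConjClasses.mk c.out = c from c.out_eq] at this

theorem cls_c_mk (x : G) : cls_c (ConjClasses.mk x) = Nat.card (centralizer {x}) := by
  have h1 := cls_size x
  have h2 := cls_size' (ConjClasses.mk x)
  have h3 : 0 < (ConjClasses.mk x).carrier.ncard :=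
    (Set.ncard_pos (Set.toFinite _)).2 ⟨x, ConjClasses.mem_carrier_mk⟩
  exact Nat.eq_of_mul_eq_mul_left h3 (h2.trans h1.symm)

theorem cls_one : cls_c (ConjClasses.mk (1 : G)) = Nat.card G := by
  have : centralizer {(1 : G)} = ⊤ := eq_top_iff.2 fun y _ =>
    mem_centralizer_singleton_iff.2 (by simp)
  rw [cls_c_mk, this, card_top]

theorem cls_eq [Fintype (ConjClasses G)] : ∑ c : ConjClasses G, (1 : ℚ) / cls_c c = 1 := by
  have h1 := Group.sum_card_conj_classes_eq_card G
  rw [finsum_eq_sum_of_fintype] at h1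
  have h0 : (Nat.card G : ℚ) ≠ 0 := by exact_mod_cast Nat.card_pos.ne'
  refine mul_right_cancel₀ h0 ?_
  rw [one_mul, Finset.sum_mul]
  conv_rhs => rw [← h1]
  push_cast
  refine Finset.sum_congr rfl fun c _ => ?_
  have h2 : (cls_c c : ℚ) ≠ 0 := by exact_mod_cast (cls_c_pos c).ne'
  rw [← cls_size' c]
  push_cast
  field_simp

theorem cls_le {a n : ℕ} (hn : 0 < n) (h : n ≤ a) : (1 : ℚ) / a ≤ 1 / n :=
  one_div_le_one_div_of_le (by exact_mod_cast hn) (by exact_mod_cast h)

theorem cls_ge {a : ℕ} (ha : 0 < a) (h : (1 : ℚ) / a < 1) : 2 ≤ a := by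
  by_contra! h2
  obtain rfl : a = 1 := by omega
  norm_num at h

theorem cls_n2 {a b : ℕ} (ha : 0 < a) (hb : 0 < b) (h : (1 : ℚ) / a + 1 / b < 1) :
    (1 : ℚ) / a + 1 / b ≤ 5 / 6 := by
  have pa : (0 : ℚ) < 1 / a := by positivity
  have pb : (0 : ℚ) < 1 / b := by positivity
  have a2 := cls_ge ha (by linarith)
  have b2 := cls_ge hb (by linarith)
  have a2' := cls_le two_pos a2
  have b2' := cls_le two_pos b2
  by_cases a3 : 3 ≤ a
  · have := cls_le (by norm_num) a3
    push_cast at *
    linarith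
  by_cases b3 : 3 ≤ b
  · have := cls_le (by norm_num) b3
    push_cast at *
    linarith
  obtain rfl : a = 2 := by omega
  obtain rfl : b = 2 := by omega
  norm_num at h

theorem cls_n3' {a b c : ℕ} (ha : 0 < a) (hab : a ≤ b) (hbc : b ≤ c) (h7 : c ≠ 7)
    (h : (1 : ℚ) / a + 1 / b + 1 / c < 1) : (1 : ℚ) / a + 1 / b + 1 / c ≤ 23 / 24 := by
  have hb : 0 < b := by omega
  have hc : 0 < c := by omega
  have pc : (0 : ℚ) < 1 / c := by positivity
  have h56 := cls_n2 ha hb (by linarith)
  by_cases c8 : 8 ≤ c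
  · have := cls_le (by norm_num) c8
    push_cast at *
    linarith
  have c6 : c ≤ 6 := by omega
  clear h56 pc
  interval_cases c <;> interval_cases b <;> interval_cases a <;> revert h <;> norm_num

theorem cls_n3 {a b c : ℕ} (ha : 0 < a) (hb : 0 < b) (hc : 0 < c) (a7 : a ≠ 7) (b7 : b ≠ 7)
    (c7 : c ≠ 7) (h : (1 : ℚ) / a + 1 / b + 1 / c < 1) :
    (1 : ℚ) / a + 1 / b + 1 / c ≤ 23 / 24 := by
  rcases le_total a b with h1 | h1 <;> rcases le_total b c with h2 | h2 <;>
    rcases le_total a c with h3 | h3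
  · exact cls_n3' ha h1 h2 c7 h
  · exact cls_n3' ha h1 h2 c7 h
  · have := cls_n3' ha h3 h2 b7 (by linarith); linarith
  · have := cls_n3' hc h3 h1 b7 (by linarith); linarith
  · have := cls_n3' hb h1 h3 c7 (by linarith); linarith
  · have := cls_n3' hb h2 h3 a7 (by linarith); linarith
  · have := cls_n3' hc h2 h1 a7 (by linarith); linarith
  · have := cls_n3' hc h2 h1 a7 (by linarith); linarith

theorem cls_two {ι : Type*} [DecidableEq ι] (t : Finset ι) (f : ι → ℕ) (h0 : ∀ i ∈ t, 0 < f i)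
    (h2 : t.card ≤ 2) (h : ∑ i ∈ t, (1 : ℚ) / f i < 1) : ∑ i ∈ t, (1 : ℚ) / f i ≤ 5 / 6 := by
  obtain h3 | h3 | h3 : t.card = 0 ∨ t.card = 1 ∨ t.card = 2 := by omega
  · rw [Finset.card_eq_zero.1 h3]; norm_num
  · obtain ⟨a, rfl⟩ := Finset.card_eq_one.1 h3
    rw [Finset.sum_singleton] at h ⊢
    have := cls_le two_pos (cls_ge (h0 a (by simp)) h)
    push_cast at this
    linarith
  · obtain ⟨a, b, hab, rfl⟩ := Finset.card_eq_two.1 h3
    rw [Finset.sum_pair hab] at h ⊢
    exact cls_n2 (h0 a (by simp)) (h0 b (by simp)) h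

theorem cls_three {ι : Type*} [DecidableEq ι] (t : Finset ι) (f : ι → ℕ) (h0 : ∀ i ∈ t, 0 < f i)
    (h7 : ∀ i ∈ t, f i ≠ 7) (h2 : t.card ≤ 3) (h : ∑ i ∈ t, (1 : ℚ) / f i < 1) :
    ∑ i ∈ t, (1 : ℚ) / f i ≤ 23 / 24 := by
  obtain h3 | h3 : t.card ≤ 2 ∨ t.card = 3 := by omega
  · have := cls_two t f h0 h3 h
    linarith
  · obtain ⟨a, b, c, hab, hac, hbc, rfl⟩ := Finset.card_eq_three.1 h3
    rw [Finset.sum_insert (by simp [hab, hac]), Finset.sum_pair hbc, ← add_assoc] at h ⊢
    exact cls_n3 (h0 a (by simp)) (h0 b (by simp)) (h0 c (by simp)) (h7 a (by simp))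
      (h7 b (by simp)) (h7 c (by simp)) h

theorem four_le_kk (h : 6 < Nat.card G) : 4 ≤ kk G := by
  classical
  have : Finite (ConjClasses G) := Finite.of_surjective _ ConjClasses.mk_surjective
  have := Fintype.ofFinite (ConjClasses G)
  by_contra! hk
  have h1 := cls_eq (G := G)
  rw [← Finset.add_sum_erase _ _ (Finset.mem_univ (ConjClasses.mk (1 : G))), cls_one] at h1
  have h7 : (7 : ℚ) ≤ Nat.card G := by exact_mod_cast h
  have h2 : (0 : ℚ) < 1 / Nat.card G := by positivity
  have h3 : (1 : ℚ) / Nat.card G ≤ 1 / 7 := one_div_le_one_div_of_le (by norm_num) h7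
  have h4 := cls_two (Finset.univ.erase (ConjClasses.mk (1 : G))) cls_c (fun c _ => cls_c_pos c)
    (by rw [Finset.card_erase_of_mem (Finset.mem_univ _), Finset.card_univ,
      ← Nat.card_eq_fintype_card]; unfold kk at hk; omega) (by linarith)
  linarith

theorem cls_syl {p : ℕ} [hp : Fact p.Prime] (h : p ^ 2 ∣ Nat.card G) {x : G}
    (hx : IsPGroup p (zpowers x)) : ∃ P : Subgroup G, p ^ 2 ∣ Nat.card P ∧ x ∈ P ∧
      ∃ z ∈ P, z ≠ 1 ∧ ∀ y ∈ P, y * z = z * y := by
  obtain ⟨P, hP⟩ := hx.exists_le_sylow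
  have h1 : p ^ 2 ∣ Nat.card P := by
    rw [← (P : Subgroup G).card_mul_index] at h
    exact (Nat.Coprime.pow_left 2 ((Nat.Prime.coprime_iff_not_dvd hp.out).2
      P.not_dvd_index)).dvd_of_dvd_mul_right h
  have : Nontrivial P := Finite.one_lt_card_iff_nontrivial.1
    (lt_of_lt_of_le (Nat.one_lt_pow two_ne_zero hp.out.one_lt) (Nat.le_of_dvd Nat.card_pos h1))
  have := P.isPGroup'.center_nontrivial
  obtain ⟨z, hz⟩ := exists_ne (1 : center P)
  exact ⟨P, h1, hP (mem_zpowers x), z.1.1, z.1.2, fun e => hz (Subtype.ext (Subtype.ext e)),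
    fun y hy => congrArg Subtype.val (mem_center_iff.1 z.2 ⟨y, hy⟩)⟩

theorem cls_ne_seven (h : 7 ^ 2 ∣ Nat.card G) (c : ConjClasses G) : cls_c c ≠ 7 := fun h7 => by
  have : Fact (Nat.Prime 7) := ⟨by norm_num⟩
  set x := c.out
  have h7' : Nat.card (centralizer {x}) = 7 := h7
  have hx : x ∈ centralizer {x} := mem_centralizer_singleton_iff.2 rfl
  obtain ⟨P, hP, hxP, z, -, hz1, hz⟩ := cls_syl h (x := x)
    ((IsPGroup.of_card (n := 1) (by rw [h7', pow_one])).to_le (zpowers_le.2 hx))
  have hzC : z ∈ centralizer {x} := mem_centralizer_singleton_iff.2 (hz x hxP).symm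
  obtain ⟨k, hk⟩ := mem_zpowers_of_prime_card h7' (g := ⟨z, hzC⟩) (g' := ⟨x, hx⟩)
    (fun e => hz1 (congrArg Subtype.val e))
  have hk' : z ^ k = x := congrArg Subtype.val hk
  have hle : P ≤ centralizer {x} := fun y hy => mem_centralizer_singleton_iff.2 (by
    rw [← hk']; exact (Commute.zpow_right (hz y hy) k))
  have := hP.trans (card_dvd_of_le hle)
  rw [h7'] at this
  norm_num at this

theorem small {p : ℕ} (hp : p.Prime) (h7 : p ≤ 7) (h : p ^ 2 ∣ Nat.card G) : 49 * p ≤ 60 * kk G := by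
  classical
  have : Fact p.Prime := ⟨hp⟩
  have : Finite (ConjClasses G) := Finite.of_surjective _ ConjClasses.mk_surjective
  have := Fintype.ofFinite (ConjClasses G)
  obtain ⟨P, hP, -, z, -, hz1, hz⟩ := cls_syl h (x := (1 : G)) (by
    rw [zpowers_one_eq_bot]; exact IsPGroup.of_bot)
  have hne : ConjClasses.mk z ≠ ConjClasses.mk 1 := fun e =>
    hz1 (isConj_one_left.1 (ConjClasses.mk_eq_mk_iff_isConj.1 e))
  have hz2 : p ^ 2 ≤ cls_c (ConjClasses.mk z) := by
    rw [cls_c_mk]
    exact Nat.le_of_dvd Nat.card_pos (hP.trans (card_dvd_of_le fun y hy =>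
      mem_centralizer_singleton_iff.2 (hz y hy)))
  have hG : p ^ 2 ≤ Nat.card G := Nat.le_of_dvd Nat.card_pos h
  have h1 := cls_eq (G := G)
  have hm : ConjClasses.mk z ∈ Finset.univ.erase (ConjClasses.mk (1 : G)) :=
    Finset.mem_erase.2 ⟨hne, Finset.mem_univ _⟩
  rw [← Finset.add_sum_erase _ _ (Finset.mem_univ (ConjClasses.mk (1 : G))), cls_one,
    ← Finset.add_sum_erase _ _ hm] at h1
  set t := (Finset.univ.erase (ConjClasses.mk (1 : G))).erase (ConjClasses.mk z) with ht
  have hc : t.card + 2 = kk G := by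
    have a1 := Finset.card_erase_add_one hm
    have a2 := Finset.card_erase_add_one (Finset.mem_univ (ConjClasses.mk (1 : G)))
    rw [Finset.card_univ, ← Nat.card_eq_fintype_card] at a2
    rw [← ht] at a1
    unfold kk
    omega
  have hp2 : (0 : ℚ) < (p : ℚ) ^ 2 := by have := hp.pos; positivity
  have b1 : (1 : ℚ) / Nat.card G ≤ 1 / (p : ℚ) ^ 2 :=
    one_div_le_one_div_of_le hp2 (by exact_mod_cast hG)
  have b2 : (1 : ℚ) / cls_c (ConjClasses.mk z) ≤ 1 / (p : ℚ) ^ 2 :=
    one_div_le_one_div_of_le hp2 (by exact_mod_cast hz2)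
  have b3 : (0 : ℚ) < 1 / Nat.card G := by have := Nat.card_pos (α := G); positivity
  have b4 : (0 : ℚ) ≤ 1 / cls_c (ConjClasses.mk z) := by positivity
  have h2 := hp.two_le
  interval_cases p
  · omega
  · have := four_le_kk (G := G) (by omega)
    omega
  · exact absurd hp (by norm_num)
  · by_contra! hk
    have := cls_two t cls_c (fun c _ => cls_c_pos c) (by omega) (by linarith)
    norm_num at b1 b2 h1 this
    linarith
  · exact absurd hp (by norm_num)
  · by_contra! hk
    have := cls_three t cls_c (fun c _ => cls_c_pos c) (fun c _ => cls_ne_seven h c) (by omega)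
      (by linarith)
    norm_num at b1 b2 h1 this
    linarith

theorem cls_sum [Fintype G] : ∑ g : G, Nat.card (centralizer {g}) = kk G * Nat.card G := by
  rw [← card_comm_eq_card_conjClasses_mul_card, ← Nat.card_sigma]
  exact Nat.card_congr ⟨fun x => ⟨(x.1, x.2.1), (mem_centralizer_singleton_iff.1 x.2.2).symm⟩,
    fun p => ⟨p.1.1, p.1.2, mem_centralizer_singleton_iff.2 p.2.symm.eq⟩,
    fun _ => rfl, fun _ => rfl⟩

theorem central_three {X : Subgroup G} (hX : X ≤ center G) :
    Nat.card X * (3 * X.index - 2) ≤ kk G * X.index := by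
  classical
  have := Fintype.ofFinite G
  have h1 := cls_sum (G := G)
  have hXC : ∀ g : G, X ≤ centralizer {g} := fun g x hx =>
    mem_centralizer_singleton_iff.2 (mem_center_iff.1 (hX hx) g).symm
  have h2 : ∀ g : G, (if g ∈ X then Nat.card G else 2 * Nat.card X) ≤ Nat.card (centralizer {g}) :=
    fun g => by
      split_ifs with hg
      · have : centralizer {g} = ⊤ := eq_top_iff.2 fun y _ =>
          mem_centralizer_singleton_iff.2 (mem_center_iff.1 (hX hg) y)
        rw [this, card_top]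
      · obtain ⟨k, hk⟩ := card_dvd_of_le (hXC g)
        have k0 : k ≠ 0 := by
          rintro rfl
          exact Nat.card_pos.ne' hk
        have k1 : k ≠ 1 := by
          rintro rfl
          exact hg ((eq_of_le_of_card_ge (hXC g) (by rw [hk, mul_one])).ge
            (mem_centralizer_singleton_iff.2 rfl))
        rw [hk, mul_comm]
        exact Nat.mul_le_mul_left _ (by omega)
  have h3 := Finset.sum_le_sum (s := Finset.univ) fun g _ => h2 g
  rw [h1, Finset.sum_ite, Finset.sum_const, Finset.sum_const, smul_eq_mul, smul_eq_mul] at h3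
  have h4 : (Finset.univ.filter fun g : G => g ∈ X).card = Nat.card X := by
    rw [Nat.card_eq_fintype_card, Fintype.card_subtype]
  have h5 := Finset.card_filter_add_card_filter_not (s := Finset.univ) (fun g : G => g ∈ X)
  rw [h4, Finset.card_univ, ← Nat.card_eq_fintype_card] at h5
  rw [h4] at h3
  have h6 := X.card_mul_index
  have h7 : X.index ≠ 0 := index_ne_zero_of_finite
  obtain ⟨j, hj⟩ : ∃ j, X.index = j + 1 := ⟨X.index - 1, by omega⟩
  have h8 : (Finset.univ.filter fun g : G => ¬ g ∈ X).card = Nat.card X * j := by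
    rw [hj, mul_add, mul_one] at h6
    omega
  rw [h8, ← h6, hj] at h3
  rw [hj, show 3 * (j + 1) - 2 = 3 * j + 1 by omega]
  refine Nat.le_of_mul_le_mul_right (c := Nat.card X) ?_ Nat.card_pos
  calc _ = Nat.card X * (Nat.card X * (j + 1)) + Nat.card X * j * (2 * Nat.card X) := by ring
    _ ≤ _ := h3
    _ = _ := by ring

/-- weights on the symmetric group of degree four -/
def cls_w (q : Equiv.Perm (Fin 4)) : ℕ :=
  if q = 1 then 24 else if q ^ 3 = 1 then 3 else if ∃ a, q a = a then 2 else 4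

theorem cls_w_sum : ∑ q : Equiv.Perm (Fin 4), cls_w q = 96 := by decide +kernel

theorem cls_w_le : ∀ q : Equiv.Perm (Fin 4), q ≠ 1 → cls_w q ≤ 5 := by decide +kernel

theorem cls_w_spec : ∀ q : Equiv.Perm (Fin 4), q ≠ 1 → ∃ r : Equiv.Perm (Fin 4),
    (∃ i : Fin 4, q = r ^ (i : ℕ)) ∧ ∀ j : Fin 5, 0 < (j : ℕ) → (j : ℕ) < cls_w q → r ^ (j : ℕ) ≠ 1 := by
  decide +kernel

theorem central_s4 {X : Subgroup G} [X.Normal] (hX : X ≤ center G) (e : G ⧸ X ≃* Equiv.Perm (Fin 4)) :
    4 * Nat.card X ≤ kk G := by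
  classical
  have := Fintype.ofFinite G
  set π : G →* Equiv.Perm (Fin 4) := e.toMonoidHom.comp (QuotientGroup.mk' X) with hπ
  have hs : Function.Surjective π := e.surjective.comp (QuotientGroup.mk'_surjective X)
  have hk : π.ker = X := by
    ext x
    rw [MonoidHom.mem_ker, ← QuotientGroup.eq_one_iff]
    exact e.map_eq_one_iff
  have hG : Nat.card G = 24 * Nat.card X := by
    have := CfsgLib.Core.card_comap_of_surjective hs ⊤
    rwa [comap_top, card_top, card_top, hk, Nat.card_eq_fintype_card (α := Equiv.Perm (Fin 4)),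
      Fintype.card_perm, Fintype.card_fin] at this
  have h2 : ∀ g : G, cls_w (π g) * Nat.card X ≤ Nat.card (centralizer {g}) := fun g => by
    by_cases hg : π g = 1
    · have : centralizer {g} = ⊤ := eq_top_iff.2 fun y _ =>
        mem_centralizer_singleton_iff.2 (mem_center_iff.1 (hX (hk ▸ hg)) y)
      rw [this, card_top, hG, hg]
      exact le_of_eq rfl
    obtain ⟨r, ⟨i, hi⟩, hr⟩ := cls_w_spec _ hg
    obtain ⟨r, rfl⟩ := hs r
    have a1 : cls_w (π g) ≤ orderOf (π r) := by
      by_contra! hlt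
      have h4 : orderOf (π r) < 5 := hlt.trans_le (cls_w_le _ hg)
      exact hr ⟨_, h4⟩ (orderOf_pos _) hlt (pow_orderOf_eq_one _)
    have cm : ∀ y ∈ (zpowers (π r)).comap π, ∃ (k : ℤ) (x : G), x ∈ center G ∧ y = r ^ k * x := by
      rintro y ⟨k, hk'⟩
      refine ⟨k, (r ^ k)⁻¹ * y, hX (hk ▸ ?_), by group⟩
      rw [MonoidHom.mem_ker, map_mul, map_inv, map_zpow, inv_mul_eq_one]
      exact hk'
    have a2 : (zpowers (π r)).comap π ≤ centralizer {g} := fun y hy => by
      obtain ⟨k, x, hx, rfl⟩ := cm y hy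
      obtain ⟨k', x', hx', rfl⟩ := cm g (by rw [mem_comap, hi]; exact pow_mem (mem_zpowers _) _)
      have c1 : ∀ a, Commute a x := fun a => mem_center_iff.1 hx a
      have c2 : ∀ a, Commute a x' := fun a => mem_center_iff.1 hx' a
      exact mem_centralizer_singleton_iff.2 (((Commute.zpow_zpow_self r k k').mul_right
        (c2 _)).mul_left (c1 _).symm)
    have a3 := card_le_of_le a2
    rw [CfsgLib.Core.card_comap_of_surjective hs, hk, Nat.card_zpowers] at a3
    exact (Nat.mul_le_mul_right _ a1).trans a3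
  have h3 := Finset.sum_le_sum (s := Finset.univ) fun g _ => h2 g
  rw [cls_sum, ← Finset.sum_mul, ← Finset.sum_fiberwise (s := Finset.univ) (g := π)] at h3
  have h4 : ∀ q : Equiv.Perm (Fin 4), ∑ g ∈ Finset.univ with π g = q, cls_w (π g) =
      Nat.card X * cls_w q := fun q => by
    rw [Finset.sum_congr rfl (g := fun _ => cls_w q) fun g hg => by
      rw [(Finset.mem_filter.1 hg).2], Finset.sum_const, smul_eq_mul,
      MonoidHom.card_fiber_eq_of_mem_range π (hs q) (hs 1), ← hk, Nat.card_eq_fintype_card,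
      Fintype.card_subtype]
    simp only [MonoidHom.mem_ker]
  rw [Finset.sum_congr rfl fun q _ => h4 q, ← Finset.mul_sum, cls_w_sum, hG] at h3
  refine Nat.le_of_mul_le_mul_right (c := 24 * Nat.card X) (le_trans (le_of_eq ?_) h3)
    (by have := Nat.card_pos (α := X); omega)
  ring

end CfsgLib.HK
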