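import Mathlib
import Cfsg.Agent.S4190
import Cfsg.Agent.Lib.Base.Main

/-! Class numbers of solvable groups of order divisible by `p ^ 2` (plans/HK.md). -/

set_option autoImplicit false

namespace CfsgLib.HK

/-- the number of conjugacy classes of `G` that meet `N` -/
noncomputable def kin {G : Type*} [Group G] (N : Subgroup G) : ℕ := (ConjClasses.mk '' (N : Set G)).ncard

/-- the number of orbits -/
noncomputable abbrev orb (H V : Type*) [Group H] [MulAction H V] : ℕ :=
  Nat.card (MulAction.orbitRel.Quotient H V)

end CfsgLib.HK
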