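import Cfsg.Agent.Lib.HK.Sym
import Cfsg.Agent.Lib.HK.Cls
import Cfsg.Agent.Lib.HK.Num

/-! HK, package FLD: numerical data of a primitive solvable linear group (plans/HK.md). -/

set_option autoImplicit false
set_option linter.unusedSectionVars false

namespace CfsgLib.HK
open Subgroup MulAction Cfsg CfsgLib.Base
open Cfsg.Agent.S4190 (kk cnt idx_le kSub kAb kQuot kk_pos gen)
open scoped commutatorElement Pointwise IsMulCommutative

theorem card_ringAut_le {K : Type*} [Field K] [Finite K] {p : ℕ} [Fact p.Prime] (h : (p : K) = 0) :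
    ∃ a, Nat.card K = p ^ a ∧ Nat.card (RingAut K) ≤ a := by
  have : CharP K p := (CharP.charP_iff_prime_eq_zero Fact.out).2 h
  let _ := ZMod.algebra K p
  refine ⟨Module.finrank (ZMod p) K, by rw [Module.natCard_eq_pow_finrank (K := ZMod p), Nat.card_zmod], ?_⟩
  refine (Nat.card_le_card_of_injective (fun σ : RingAut K => (AlgEquiv.ofRingEquiv (f := σ) fun x =>
    DFunLike.congr_fun (RingHom.ext_zmod ((σ : K →+* K).comp (algebraMap (ZMod p) K)) (algebraMap (ZMod p) K)) x :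
      K ≃ₐ[ZMod p] K)) fun a b h => RingEquiv.ext fun x => DFunLike.congr_fun h x).trans ?_
  rw [Nat.card_eq_fintype_card]
  exact AlgEquiv.card_le

universe u

variable {G : Type u} {V K : Type*} [Group G] [AddCommGroup V] [DistribMulAction G V] [Field K] [Module K V]
  [Finite G] [Group.IsSolvable G] [FaithfulSMul G V] [Finite V] [Nontrivial V] (S : PSetup G V K)

theorem n_le : S.A.relIndex S.F ≤ Module.finrank K V ^ 2 := by
  obtain ⟨β, hβ⟩ := Perm.exists_commPairing S.ι S.F S.F inf_le_right inf_le_right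
    fun x hx y hy => PSetup.commutator_le (commutator_mem_commutator hx hy)
  have := Fintype.ofFinite (S.F ⧸ S.A.subgroupOf S.F)
  let L : S.F → V →ₗ[K] V := fun w => ⟨⟨fun v => (w : G) • v, smul_add _⟩, PSetup.lin w.2.2⟩
  have hL : ∀ w v, L w v = (w : G) • v := fun _ _ => rfl
  have hx : ∀ (u w : S.F) (v : V), (u : G) • (w : G) • v = (β u w : K) • (w : G) • (u : G) • v := fun u w v => by
    rw [hβ, ← S.scal]
    simp [commutatorElement_def, mul_smul]
  have hinj : Function.Injective fun q : S.F ⧸ S.A.subgroupOf S.F => β.flip q.out := fun q q' h => by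
    rw [← q.out_eq', ← q'.out_eq']
    refine QuotientGroup.eq.2 (PSetup.mem_A (q.out⁻¹ * q'.out).2.2 fun f hf => ?_)
    have h1 : β ⟨f, hf⟩ (q.out⁻¹ * q'.out) = 1 := by
      rw [map_mul, map_inv, inv_mul_eq_one]
      exact DFunLike.congr_fun h ⟨f, hf⟩
    rw [hβ, map_eq_one_iff _ PSetup.ι_injective] at h1
    exact commutatorElement_eq_one_iff_mul_comm.1 (congrArg Subtype.val h1)
  have hli : LinearIndependent K fun q : S.F ⧸ S.A.subgroupOf S.F => L q.out := by
    rw [Fintype.linearIndependent_iff]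
    intro c hc w
    obtain ⟨v, hv⟩ := exists_ne (0 : V)
    obtain ⟨f, hf⟩ := Module.Projective.exists_dual_ne_zero K ((smul_ne_zero_iff_ne (w.out : G)).2 hv)
    have := Fintype.linearIndependent_iff.1 ((Perm.linearIndependent_unitsHom S.F K).comp _ hinj)
      (fun w => c w * f ((w.out : G) • v)) (funext fun u => ?_) w
    · exact (mul_eq_zero.1 this).resolve_right hf
    have h1 := congrArg (fun g : V →ₗ[K] V => f (L u (g ((u : G)⁻¹ • v)))) hc
    simp only [LinearMap.sum_apply, LinearMap.smul_apply, map_sum, map_smul,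
      LinearMap.zero_apply, map_zero, smul_eq_mul] at h1
    simp only [hL, hx u, smul_inv_smul, map_smul, smul_eq_mul] at h1
    rw [Finset.sum_apply]
    refine Eq.trans (Finset.sum_congr rfl fun w _ => ?_) h1
    change c w * f ((w.out : G) • v) * β u w.out = _
    ring
  have h := hli.fintype_card_le_finrank
  rwa [Module.finrank_linearMap, ← sq, ← Nat.card_eq_fintype_card] at h

theorem data [Finite K] {p : ℕ} [Fact p.Prime] (hV : ∀ v : V, p • v = 0) : ∃ a d e t f : ℕ,
    1 ≤ a ∧ 1 ≤ e ∧ e ≤ d ∧ 1 ≤ f ∧ f ≤ a ∧ Nat.card V = p ^ (a * d) ∧ Nat.card S.A ∣ p ^ a - 1 ∧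
    S.A.index = e ^ 2 * t * f ∧ (centralizer (S.A : Set G)).index = f ∧ (e = 1 → t = 1) ∧
    (Squarefree e → 1 < e → t ≤ (e ^ 2 - 1) * e) ∧ (e = 4 → t ≤ 144) ∧ t ≤ e ^ 6 ∧ (e = 2 → t ∣ 6) ∧
    (e = 2 → t = 6 → f = 1 → Nonempty (G ⧸ S.A ≃* Equiv.Perm (Fin 4))) := by
  obtain ⟨v, hv⟩ := exists_ne (0 : V)
  obtain ⟨a, ha, ha'⟩ := card_ringAut_le (K := K) (p := p) ((smul_eq_zero_iff_left hv).1
    (by rw [Nat.cast_smul_eq_nsmul, hV]))
  obtain ⟨B, h1, h2, h3, h4⟩ := exists_lag S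
  have hn : S.A.relIndex S.F = B.relIndex S.F ^ 2 := by
    rw [← relIndex_mul_relIndex _ _ _ h1 h2, h4, pow_two]
  have hf : (centralizer (S.A : Set G)).index ≤ a := by
    rw [← S.ker, index_ker]
    have : Finite (RingAut K) := Finite.of_injective (fun σ : RingAut K => (σ : K → K)) DFunLike.coe_injective
    exact (card_le_card_group _).trans ha'
  have hf1 : 1 ≤ (centralizer (S.A : Set G)).index := Nat.pos_of_ne_zero index_ne_zero_of_finite
  have hi : S.A.index = B.relIndex S.F ^ 2 * S.F.relIndex (centralizer (S.A : Set G)) *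
      (centralizer (S.A : Set G)).index := by
    rw [← hn, relIndex_mul_relIndex _ _ _ PSetup.A_le_F inf_le_right, relIndex_mul_index (le_centralizer _)]
  refine ⟨a, Module.finrank K V, B.relIndex S.F, S.F.relIndex (centralizer (S.A : Set G)), _, hf1.trans hf,
    Nat.pos_of_ne_zero index_ne_zero_of_finite, ?_, hf1, hf, ?_, ?_, hi, rfl, fun h => t_one S (by rw [hn, h]; rfl),
    t_sqfree S h1 h2 h3 h4 rfl, fun h => t_sixteen S (by rw [hn, h]; rfl), ?_,
    fun h => t_four S (by rw [hn, h]; rfl), fun e1 e2 e3 => s_four S (by rw [hn, e1]; rfl) (index_eq_one.1 e3)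
      (by rw [hi, e1, e2, e3]; rfl)⟩
  · exact (Nat.pow_le_pow_iff_left two_ne_zero).1 (hn ▸ n_le S)
  · rw [pow_mul, ← ha, Module.natCard_eq_pow_finrank (K := K)]
  · rw [← ha, ← Nat.card_units]
    exact card_dvd_of_injective _ PSetup.ι_injective
  · have := t_cube S
    rwa [hn, ← pow_mul] at this

theorem prim_ab (h : Prim G V) {p : ℕ} [hp : Fact p.Prime] (h11 : 11 ≤ p) (hV : ∀ v : V, p • v = 0) :
    ∃ X : Subgroup G, X.Normal ∧ X ≤ centralizer (X : Set G) ∧
      ((Nat.card V - 1 = p - 1 ∧ X.index * (centralizer (X : Set G)).index = 1) ∨ (p ^ 2 - 1 ≤ Nat.card V - 1 ∧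
        (p ^ 2 - 1) * (X.index * (centralizer (X : Set G)).index) ≤ 24 * (Nat.card V - 1))) := by
  obtain ⟨K, _, _, _, ⟨S⟩⟩ := h.exists_setup
  obtain ⟨a, d, e, t, f, ha, he, hd, hf1, hf, hc, -, hi, hC, t1, t2, t4, t6, t7, -⟩ := data S hV
  refine ⟨S.A, inferInstance, le_centralizer _, ?_⟩
  rw [hc, hi, hC]
  by_cases h2 : 2 ≤ a * d
  · refine Or.inr ⟨Nat.sub_le_sub_right (Nat.pow_le_pow_right hp.out.pos h2) 1, ?_⟩
    rcases num_comp h11 ha he hd hf h2 (fun h => (t1 h).le) t2 t4 t6 with h3 | ⟨rfl, -, h3⟩ | ⟨rfl, rfl, rfl⟩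
    · have : (p ^ 2 - 1) * (e ^ 2 * t * f * f) ≤ p ^ 2 * (e ^ 2 * t * f * f) :=
        Nat.mul_le_mul_right _ (Nat.sub_le _ _)
      rw [mul_assoc] at h3
      omega
    · obtain rfl : f = 1 := by omega
      have h4 : 9 * (p ^ 2 - 1) ≤ p ^ 3 - 1 := by
        have : 9 * p ^ 2 ≤ p ^ 3 := by rw [pow_succ p 2, mul_comm]; exact Nat.mul_le_mul_left _ (by omega)
        omega
      have := Nat.mul_le_mul_right (e ^ 2 * t) h4
      rw [mul_one, mul_one, one_mul]
      rw [mul_assoc] at this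
      omega
    · obtain rfl : f = 1 := by omega
      have := Nat.le_of_dvd (by norm_num) (t7 rfl)
      rw [mul_comm]
      exact Nat.mul_le_mul (by omega) le_rfl
  · obtain ⟨rfl, rfl⟩ : a = 1 ∧ d = 1 := by
      have : d ≤ a * d := Nat.le_mul_of_pos_left _ ha
      have : a ≤ a * d := Nat.le_mul_of_pos_right _ (by omega)
      omega
    obtain rfl : e = 1 := by omega
    obtain rfl : f = 1 := by omega
    simp [t1 rfl]

theorem prim_bound (h : Prim G V) {p : ℕ} [hp : Fact p.Prime] (h11 : 11 ≤ p) (hV : ∀ v : V, p • v = 0)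
    (h2 : p ^ 2 ≤ Nat.card V) {o : ℕ} (ho : Nat.card V - 1 ≤ o * Nat.card G) : 49 * p ≤ 60 * (o + kk G) := by
  obtain ⟨K, _, _, _, ⟨S⟩⟩ := h.exists_setup
  obtain ⟨a, d, e, t, f, ha, he, hd, hf1, hf, hc, hA, hi, hC, t1, t2, t4, t6, t7, t8⟩ := data S hV
  rw [hc] at h2 ho
  rw [← S.A.card_mul_index] at ho
  have h0 : 0 < S.A.index := Nat.pos_of_ne_zero index_ne_zero_of_finite
  have hZ : f = 1 → S.A ≤ center G := fun h => by
    rw [← hC, index_eq_one] at h
    exact centralizer_eq_top_iff_subset.1 h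
  rcases num_comp h11 ha he hd hf ((Nat.pow_le_pow_iff_right hp.out.one_lt).1 h2) (fun h => (t1 h).le) t2 t4 t6
    with h3 | ⟨rfl, h4, h3⟩ | ⟨rfl, rfl, rfl⟩
  · refine num_big (hi ▸ Nat.mul_pos h0 hf1) (ho.trans ?_) h3
    rw [← hi, mul_assoc, ← hC, mul_comm S.A.index, ← mul_assoc (kk G)]
    exact Nat.mul_le_mul_left _ (Nat.mul_le_mul_right _ (kAb _))
  · obtain rfl : f = 1 := by omega
    rw [one_mul] at ho
    exact num_mid h11 h0 ho (central_three (hZ rfl))
      (Nat.sub_le_sub_right (Nat.pow_le_pow_right hp.out.pos h4) 1) (by rwa [hi, mul_one])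
  · obtain rfl : f = 1 := by omega
    by_cases h6 : t = 6
    · obtain ⟨e⟩ := t8 rfl h6 rfl
      rw [hi, h6] at ho
      exact num_s4 h11 (by simpa using hA) ho (central_s4 (hZ rfl) e)
    · refine num_twelve h11 h0 ho (central_three (hZ rfl)) ?_
      have := Nat.le_of_dvd (by norm_num) (t7 rfl)
      have := t7 rfl
      rw [hi]
      interval_cases t <;> simp_all

end CfsgLib.HK
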