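import Cfsg.Agent.Lib.HK.Prm

/-! HK, package IMP: imprimitive modules (plans/HK.md). -/

set_option autoImplicit false
set_option linter.unusedSectionVars false

namespace CfsgLib.HK
open Subgroup MulAction Cfsg CfsgLib.Base
open Cfsg.Agent.S4190 (kk cnt idx_le kSub kAb kQuot kk_pos gen)
open scoped commutatorElement Pointwise

variable {H V : Type*} [Group H] [Finite H] [AddCommGroup V] [Finite V] [DistribMulAction H V]

theorem orb_blk {U : AddSubgroup V} (h0 : U ≠ ⊥) (hU : Blk H U) : ∃ o, o + (stabilizer H U).index ≤ orb H V ∧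
    (Nat.card U - 1) ^ (stabilizer H U).index ≤ o * Nat.card H := by
  classical
  have hW : Cfsg.Agent.S4190.Blk H U := ⟨h0, hU.mono_right (sSup_le (by
    rintro _ ⟨⟨g, rfl⟩, hg⟩
    exact le_iSup₂_of_le (f := fun (g : H) (_ : g • U ≠ U) => g • U) g hg le_rfl))⟩
  obtain ⟨⟨w, hw⟩, hw0⟩ := AddSubgroup.ne_bot_iff_exists_ne_zero.1 h0
  have hw0' : w ≠ 0 := fun e => hw0 (Subtype.ext e)
  let e := (Finite.equivFin (H ⧸ stabilizer H U)).symm
  let I := Fin (Nat.card (H ⧸ stabilizer H U))
  have hn : ∀ g : H, Function.Injective fun i : I => (g * (e i).out) • U := fun g i j h => by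
    apply e.injective
    rw [← (e i).out_eq', ← (e j).out_eq']
    refine QuotientGroup.eq.2 ?_
    have h' : (e i).out • U = (e j).out • U := by simpa [mul_smul] using h
    rw [mem_stabilizer_iff, mul_smul, ← h', inv_smul_smul]
  let D := {u : U // u ≠ 0}
  let vec : Finset I → (I → D) → V := fun s u => ∑ k ∈ s, (e k).out • ((u k).1 : V)
  have uq : ∀ (s t : Finset I) (u u' : I → D) (l : H), l • vec s u = vec t u' → ∀ k ∈ s,
      ∃ j ∈ t, (l * (e k).out) • U = (1 * (e j).out) • U ∧
        l • (e k).out • ((u k).1 : V) = (e j).out • ((u' j).1 : V) := fun s t u u' l h k hk => by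
    have h' : ∑ k ∈ s, l • (e k).out • ((u k).1 : V) = ∑ k ∈ t, (e k).out • ((u' k).1 : V) := by
      rw [← Finset.smul_sum]; exact h
    exact hW.uniq (i := k) s t _ _ (hn l) (hn 1) _ _
      (fun k => by rw [← mul_smul]; exact AddSubgroup.smul_mem_pointwise_smul _ _ _ (u k).1.2)
      (fun k => by rw [one_mul]; exact AddSubgroup.smul_mem_pointwise_smul _ _ _ (u' k).1.2) h' hk
      (fun e => (u k).2 (Subtype.ext ((smul_eq_zero_iff_eq _).1 ((smul_eq_zero_iff_eq l).1 e))))
  have key : ∀ (s t : Finset I) (u u' : I → D) (l : H), l • vec s u = vec t u' →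
      s.card ≤ t.card := fun s t u u' l h => by
    have := uq s t u u' l h
    choose! f hf hf' _ using this
    exact Finset.card_le_card_of_injOn f hf fun a ha b hb e =>
      hn l ((hf' a ha).trans (e ▸ (hf' b hb).symm))
  have key2 : ∀ (s t : Finset I) (u u' : I → D),
      (Quotient.mk _ (vec s u) : orbitRel.Quotient H V) = Quotient.mk _ (vec t u') →
      s.card = t.card := fun s t u u' h => by
    obtain ⟨g, hg⟩ := orbitRel_apply.1 (Quotient.exact h)
    have hg' : g • vec t u' = vec s u := hg
    exact le_antisymm (key s t u u' g⁻¹ (by rw [← hg', inv_smul_smul])) (key t s u' u g hg')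
  let O : Set (orbitRel.Quotient H V) := Set.range fun u : I → D => Quotient.mk _ (vec Finset.univ u)
  let w0 : I → D := fun _ => ⟨⟨w, hw⟩, hw0⟩
  refine ⟨Nat.card O, ?_, ?_⟩
  · have h1 : Nat.card (O ⊕ I) ≤ orb H V := by
      refine Nat.card_le_card_of_injective
        (Sum.elim (fun o => o.1) fun j => Quotient.mk _ (vec (Finset.Iio j) w0))
        (Function.Injective.sumElim Subtype.val_injective (fun i j h => ?_) ?_)
      · have := key2 _ _ _ _ h
        rw [Fin.card_Iio, Fin.card_Iio] at this
        exact Fin.ext this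
      · rintro ⟨_, u, rfl⟩ j h
        have := key2 _ _ _ _ h
        rw [Fin.card_Iio, Finset.card_univ, Fintype.card_fin] at this
        exact j.2.ne' this
    rw [Nat.card_sum] at h1
    simpa [I, index] using h1
  · have := cnt (fun u : I → D => vec Finset.univ u) ⊤ ⊥ O (fun u => ⟨u, rfl⟩)
      (fun i j g h => ⟨g, trivial, h⟩) fun u u' l hl h => by
        rw [mem_bot] at hl
        subst hl
        funext k
        obtain ⟨j, -, h1, h2⟩ := uq _ _ u u' 1 h k (Finset.mem_univ k)
        obtain rfl : k = j := hn 1 h1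
        rw [one_smul] at h2
        exact Subtype.ext (Subtype.ext (smul_left_cancel _ h2))
    have hD : Nat.card D = Nat.card U - 1 := by
      have := Fintype.ofFinite U
      simp [D, Nat.card_eq_fintype_card]
    rw [Nat.card_fun, hD, relIndex_top_right, index_bot] at this
    simpa [I, index] using this

theorem core_eq_bot [FaithfulSMul H V] (hV : Irr H V) {U : AddSubgroup V} (h0 : U ≠ ⊥) {K : Subgroup H}
    (hK : ∀ g ∈ K, ∀ u ∈ U, g • u = u) : K.normalCore = ⊥ := by
  let F : AddSubgroup V :=
    { carrier := {v | ∀ g ∈ K.normalCore, g • v = v}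
      add_mem' := fun ha hb g hg => by rw [smul_add, ha g hg, hb g hg]
      zero_mem' := fun g _ => smul_zero g
      neg_mem' := fun ha g hg => by rw [smul_neg, ha g hg] }
  have hF : MInv H F := fun h v hv g hg => by
    have := hv _ ((inferInstance : K.normalCore.Normal).conj_mem g hg h⁻¹)
    rw [inv_inv, mul_smul, mul_smul, inv_smul_eq_iff] at this
    exact this
  have hUF : U ≤ F := fun u hu g hg => hK g (normalCore_le K hg) u hu
  rcases hV F hF with h | h
  · exact absurd (le_bot_iff.1 (h ▸ hUF)) h0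
  · rw [eq_bot_iff]
    intro g hg
    rw [mem_bot]
    exact eq_of_smul_eq_smul (α := V) fun v => by
      rw [one_smul]; exact (h.ge (AddSubgroup.mem_top v) : v ∈ F) g hg

theorem core_facts {Γ : Type*} [Group Γ] {S : Subgroup H} (φ : S →* Γ) (hφ : Function.Surjective φ)
    (hk : (φ.ker.map S.subtype).normalCore = ⊥) (X : Subgroup Γ) [X.Normal] {A : Subgroup H}
    (hA : A = ((X.comap φ).map S.subtype).normalCore) :
    A.index ≤ S.normalCore.index * X.index ^ S.index ∧
      (centralizer (A : Set H)).index ≤ S.normalCore.index * (centralizer (X : Set Γ)).index ^ S.index ∧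
      (X ≤ centralizer (X : Set Γ) → A ≤ centralizer (A : Set H)) := by
  have h1 : ∀ (Y : Subgroup Γ) [Y.Normal], ((Y.comap φ).map S.subtype).normalCore.index ≤
      S.normalCore.index * Y.index ^ S.index := fun Y _ => by
    have a1 : (Y.comap φ).map S.subtype ≤ S := map_subtype_le _
    have a2 : S ≤ normalizer (((Y.comap φ).map S.subtype : Subgroup H) : Set H) := by
      have := le_normalizer_map (H := Y.comap φ) S.subtype
      rwa [normalizer_eq_top, ← MonoidHom.range_eq_map, range_subtype] at this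
    have a3 : ((Y.comap φ).map S.subtype).relIndex S = Y.index := by
      rw [relIndex, subgroupOf, comap_map_eq_self_of_injective S.subtype_injective,
        index_comap_of_surjective _ hφ]
    have := index_core_le a1 a2
    rwa [a3] at this
  have h2 : (((centralizer (X : Set Γ)).comap φ).map S.subtype).normalCore ≤
      centralizer (A : Set H) := fun b hb => mem_centralizer_iff.2 fun a ha => by
    rw [← commutatorElement_eq_one_iff_mul_comm, ← mem_bot, ← hk]
    intro g
    rw [hA] at ha
    obtain ⟨x, hx, ex⟩ := ha g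
    obtain ⟨y, hy, ey⟩ := hb g
    refine ⟨⁅x, y⁆, ?_, ?_⟩
    · show φ ⁅x, y⁆ = 1
      rw [map_commutatorElement, commutatorElement_eq_one_iff_mul_comm]
      exact mem_centralizer_iff.1 hy _ hx
    · rw [map_commutatorElement, ex, ey]
      simp only [commutatorElement_def]
      group
  refine ⟨hA ▸ h1 X, (index_antitone h2).trans (h1 _), fun h => le_trans ?_ h2⟩
  rw [hA]
  exact normalCore_mono (map_mono (comap_mono h))

theorem orb_rng : orb (rng H V) V = orb H V := by
  refine Nat.card_congr (Quotient.congrRight fun a b => ?_)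
  rw [orbitRel_apply, orbitRel_apply]
  constructor
  · rintro ⟨r, hr⟩
    obtain ⟨g, hg⟩ := exists_rng' r
    exact ⟨g, (hg b).symm.trans hr⟩
  · rintro ⟨g, hg⟩
    obtain ⟨r, hr⟩ := exists_rng (V := V) g
    exact ⟨r, (hr b).symm.trans hg⟩

theorem orb_conj (N : Subgroup H) [N.Normal] [IsMulCommutative N] :
    letI := conjAct N ⊤
    orb (⊤ : Subgroup H) (Additive N) = kin N := by
  let _ := conjAct N ⊤
  rw [kin, ← Nat.card_coe_set_eq]
  refine Nat.card_congr (Equiv.ofBijective (fun o => ⟨ConjClasses.mk ((o.out.toMul : N) : H),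
    _, o.out.toMul.2, rfl⟩) ⟨fun a b h => ?_, ?_⟩)
  · obtain ⟨g, hg⟩ := isConj_iff.1 (ConjClasses.mk_eq_mk_iff_isConj.1 (congrArg Subtype.val h))
    rw [← a.out_eq', ← b.out_eq']
    have : (⟨g, mem_top g⟩ : (⊤ : Subgroup H)) • a.out = b.out := Subtype.ext hg
    exact (Quotient.sound (orbitRel_apply.2 ⟨_, this⟩)).symm
  · rintro ⟨_, x, hx, rfl⟩
    refine ⟨Quotient.mk _ (Additive.ofMul ⟨x, hx⟩), Subtype.ext ?_⟩
    obtain ⟨g, hg⟩ := orbitRel_apply.1 (Quotient.exact (Quotient.out_eq
      (Quotient.mk (orbitRel (⊤ : Subgroup H) (Additive N)) (Additive.ofMul ⟨x, hx⟩))))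
    refine (ConjClasses.mk_eq_mk_iff_isConj.2 (isConj_iff.2 ⟨(g : H), ?_⟩)).symm
    exact congrArg (fun v : Additive N => ((v.toMul : N) : H)) hg

end CfsgLib.HK
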