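import Cfsg.Agent.Lib.HK.Fld
import Cfsg.Agent.Lib.HK.Imp

/-! HK, main induction (plans/HK.md). -/

set_option autoImplicit false
set_option linter.unusedSectionVars false

namespace CfsgLib.HK
open Subgroup MulAction Cfsg CfsgLib.Base
open Cfsg.Agent.S4190 (kk cnt idx_le kSub kAb kQuot kk_pos gen)
open scoped commutatorElement Pointwise IsMulCommutative

theorem lin {H V : Type*} [Group H] [Finite H] [Group.IsSolvable H] [AddCommGroup V] [Finite V]
    [DistribMulAction H V] [FaithfulSMul H V] (hI : Irr H V) {p : ℕ} [hp : Fact p.Prime] (h11 : 11 ≤ p)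
    (hV : ∀ v : V, p • v = 0) (h2 : p ^ 2 ≤ Nat.card V) : 49 * p + 60 ≤ 60 * (orb H V + kk H) := by
  have : Nontrivial V := Finite.one_lt_card_iff_nontrivial.1
    (lt_of_lt_of_le (Nat.one_lt_pow two_ne_zero hp.out.one_lt) h2)
  obtain ⟨U, h0, hU, hP⟩ := exists_prim_blk (G := H) (V := V)
  let _ := resAct (mInv_stabilizer (G := H) U)
  have : Nontrivial U := (AddSubgroup.nontrivial_iff_ne_bot U).2 h0
  have hP' : Prim (rng (stabilizer H U) U) U := hP.of_same exists_rng
  have hU' : ∀ u : U, p • u = 0 := fun u => Subtype.ext (hV u)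
  let φ : stabilizer H U →* rng (stabilizer H U) U := MonoidHom.rangeRestrict _
  have hφ : Function.Surjective φ := MonoidHom.rangeRestrict_surjective _
  have hk : (φ.ker.map (stabilizer H U).subtype).normalCore = ⊥ := core_eq_bot hI h0 (by
    rintro _ ⟨s, hs, rfl⟩ u hu
    exact congrArg Subtype.val (DFunLike.congr_fun (congrArg Subtype.val hs) (⟨u, hu⟩ : U)))
  obtain ⟨o, ho1, ho2⟩ := orb_blk h0 hU
  have s1 := core_le_factorial (stabilizer H U)
  have s2 := core_le_three_pow (stabilizer H U)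
  by_cases hm : (stabilizer H U).index = 1
  · obtain ⟨c1, -⟩ := core_facts φ hφ hk ⊥ rfl
    rw [MonoidHom.comap_bot, hk, index_bot, index_bot, hm, pow_one] at c1
    rw [hm] at s1 ho1 ho2
    rw [pow_one] at ho2
    have hUt : U = ⊤ := (hI U fun g u hu =>
      mInv_stabilizer U ⟨g, (index_eq_one.1 hm).ge trivial⟩ u hu).resolve_left h0
    have h3 := prim_bound hP' h11 hU' (by rwa [hUt, AddSubgroup.card_top]) (ho2.trans (Nat.mul_le_mul_left _
      (c1.trans ((Nat.mul_le_mul_right _ s1).trans (one_mul _).le))))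
    have h4 := (kQuot φ hφ).trans (kSub (stabilizer H U))
    rw [hm] at h4
    omega
  obtain ⟨X, hX, hXC, h3⟩ := prim_ab hP' h11 hU'
  obtain ⟨A, hA⟩ : ∃ A, A = ((X.comap φ).map (stabilizer H U).subtype).normalCore := ⟨_, rfl⟩
  obtain ⟨c1, c2, c3⟩ := core_facts φ hφ hk X hA
  have : A.Normal := hA ▸ inferInstance
  have h4 : Nat.card H ≤ kin A * ((centralizer (A : Set H)).index * A.index) := by
    rw [← A.card_mul_index, ← mul_assoc]
    exact Nat.mul_le_mul_right _ (card_le_kin A)
  have h5 := kin_add A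
  have h6 := kk_pos (H := H ⧸ A)
  have h7 : (stabilizer H U).index ≠ 0 := index_ne_zero_of_finite
  have := num_imp (o := o) (k := kin A) (c := kk (H ⧸ A) - 1) hp.out h11 (by omega)
    (Nat.mul_pos (Nat.pos_of_ne_zero index_ne_zero_of_finite) (Nat.pos_of_ne_zero index_ne_zero_of_finite)) s1 s2
    (ho2.trans (by
      rw [mul_assoc]
      refine Nat.mul_le_mul_left _ (h4.trans (Nat.mul_le_mul_left _ ((Nat.mul_le_mul c2 c1).trans (le_of_eq ?_))))
      rw [mul_pow]
      ring)) h3 (by
      by_cases h8 : 6 < Nat.card (H ⧸ A)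
      · have := four_le_kk h8
        omega
      · refine Or.inr (ho2.trans ?_)
        rw [mul_assoc]
        have h9 : A.index ≤ 6 := not_lt.1 h8
        exact Nat.mul_le_mul_left _ (h4.trans (Nat.mul_le_mul_left _ (Nat.mul_le_mul (n₂ := 6) (m₂ := 6)
          ((Nat.le_of_dvd (Nat.pos_of_ne_zero index_ne_zero_of_finite) (index_dvd_of_le (c3 hXC))).trans h9) h9))))
  omega

theorem comm_cent {G : Type*} [Group G] (N : Subgroup G) [N.Normal] [h : IsCyclic N] :
    _root_.commutator G ≤ centralizer (N : Set G) := fun g hg n hn => by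
  let _ := (h.mulAutMulEquiv _).toMonoidHom.commGroupOfInjective (h.mulAutMulEquiv _).injective
  have h1 : MulAut.conjNormal (H := N) g = 1 := Abelianization.commutator_subset_ker _ hg
  exact (mul_inv_eq_iff_eq_mul.1 (congrArg Subtype.val (DFunLike.congr_fun h1 (⟨n, hn⟩ : N)) :)).symm

theorem big_case {G : Type*} [Group G] [Finite G] [Group.IsSolvable G] {p : ℕ} [hp : Fact p.Prime]
    (h11 : 11 ≤ p) {N : Subgroup G} [N.Normal] (hN : IsPGroup p N)
    (hmin : ∀ K : Subgroup G, K.Normal → K ≤ N → K = ⊥ ∨ K = N) (h2 : p ^ 2 ≤ Nat.card N) :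
    49 * p ≤ 60 * kk G := by
  obtain ⟨_, hexp⟩ := SolvStruct.minimal_normal_pgroup hN hmin
  let _ := conjAct N ⊤
  have hI : Irr (⊤ : Subgroup G) (Additive N) := fun U hU =>
    (hmin (U.toSubgroup'.map N.subtype) ⟨by
      rintro _ ⟨n, hn, rfl⟩ g
      exact ⟨_, hU ⟨g, trivial⟩ (Additive.ofMul n) hn, rfl⟩⟩ (map_subtype_le _)).imp
      (fun h => eq_bot_iff.2 fun u hu => congrArg Additive.ofMul (Subtype.ext (h.le ⟨_, hu, rfl⟩) : u.toMul = 1))
      fun h => eq_top_iff.2 fun u _ => by
        obtain ⟨w, hw, e⟩ := h.ge u.toMul.2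
        obtain rfl : w = u.toMul := Subtype.ext e
        exact hw
  have h3 := lin (H := rng (⊤ : Subgroup G) (Additive N)) (V := Additive N)
    (fun U hU => hI U (hU.of_le exists_rng)) h11
    (fun v => congrArg Additive.ofMul (Subtype.ext (hexp _ v.toMul.2) : v.toMul ^ p = 1)) h2
  rw [orb_rng, orb_conj] at h3
  let ψ : G →* rng (⊤ : Subgroup G) (Additive N) := (MonoidHom.rangeRestrict _).comp topEquiv.symm.toMonoidHom
  have h4 := kQuot (QuotientGroup.lift N ψ fun n hn => Subtype.ext (LinearEquiv.ext fun v =>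
    congrArg Additive.ofMul (Subtype.ext (mul_inv_eq_iff_eq_mul.2 (setLike_mul_comm (s := N) hn v.toMul.2)))))
    (QuotientGroup.lift_surjective_of_surjective _ ψ
      ((MonoidHom.rangeRestrict_surjective _).comp topEquiv.symm.surjective) _)
  have h5 := kin_add N
  omega

theorem small_case {G : Type*} [Group G] [Finite G] [Group.IsSolvable G] {p : ℕ} [hp : Fact p.Prime]
    (h11 : 11 ≤ p) {N : Subgroup G} [N.Normal] (hN : Nat.card N = p) (h1 : ¬ p ^ 2 ∣ N.index)
    (h2 : p ^ 2 ∣ Nat.card G) (h3 : pPrimeCore p G = ⊥) : 49 * p ≤ 60 * kk G := by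
  have hC := Core.centralizer_pCore_le_of_isSolvable hp.out h3
  have hP := Core.isPGroup_pCore p G
  have hq := Core.pCore_quotient_pCore p G
  have hle : ∀ M : Subgroup G, M.Normal → IsPGroup p M → M ≤ pCore p G := fun M _ h => Core.le_pCore h
  set P := pCore p G
  let π := QuotientGroup.mk' N
  have hNP : N ≤ P := hle N inferInstance (IsPGroup.of_card (n := 1) (by simpa using hN))
  have : IsCyclic N := isCyclic_of_prime_card hN
  have : (P.map π).Normal := Normal.map inferInstance _ (QuotientGroup.mk'_surjective _)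
  obtain ⟨k, hk⟩ := IsPGroup.iff_card.1 (hP.map π)
  have hk1 : k ≤ 1 := by
    by_contra h
    exact h1 ((pow_dvd_pow p (by omega)).trans (hk ▸ card_subgroup_dvd_card (P.map π)))
  have : IsCyclic (P.map π) := isCyclic_of_card_dvd_prime (p := p) (by
    rw [hk]
    interval_cases k <;> simp)
  have h4 : _root_.commutator G ≤ P := hle _ inferInstance fun g => by
    have a1 := comm_cent N g.2
    have a2 := comm_cent (P.map π) ((map_commutator _ _ π).trans_le (commutator_mono le_top le_top) (mem_map_of_mem π g.2))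
    obtain ⟨j, hj⟩ := hP ⟨(g : G) ^ p, hC fun x hx => by
      have a3 : (g : G) * x * (g : G)⁻¹ * x⁻¹ ∈ N := by
        rw [← QuotientGroup.ker_mk' N, MonoidHom.mem_ker, map_mul, map_mul, map_mul, map_inv, map_inv,
          ← a2 _ (mem_map_of_mem π hx)]
        simp [π]
      have a4 : ∀ i : ℕ, (g : G) ^ i * x = (g * x * (g : G)⁻¹ * x⁻¹) ^ i * x * g ^ i := fun i => by
        induction i with
        | zero => simp
        | succ i ih =>
          rw [pow_succ', mul_assoc, ih, ← mul_assoc, ← mul_assoc, ← a1 _ (pow_mem a3 i), pow_succ]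
          simp only [mul_assoc, inv_mul_cancel_left]
      have a5 : ((g : G) * x * (g : G)⁻¹ * x⁻¹) ^ p = 1 := by
        rw [← hN]
        exact congrArg Subtype.val (pow_card_eq_one' (x := (⟨_, a3⟩ : N)))
      rw [a4, a5, one_mul]⟩
    exact ⟨j + 1, Subtype.ext (by rw [pow_succ', pow_mul]; exact (congrArg Subtype.val hj :))⟩
  have h5 : ∀ a b : G ⧸ P, a * b = b * a := (Normal.quotient_commutative_iff_commutator_le.2 h4).is_comm.comm
  have h6 : ¬ p ∣ P.index := fun h => by
    obtain ⟨x, hx⟩ := exists_prime_orderOf_dvd_card' (G := G ⧸ P) p h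
    have a1 : zpowers x ≤ pCore p (G ⧸ P) := Core.le_pCore (hN := ⟨fun n hn g => by
      rwa [h5 g n, mul_inv_cancel_right]⟩) (IsPGroup.of_card (n := 1) (by rw [Nat.card_zpowers, hx, pow_one]))
    rw [hq, le_bot_iff, zpowers_eq_bot] at a1
    rw [a1, orderOf_one] at hx
    omega
  have h7 : Nat.card P = p ^ 2 := by
    have a1 : Nat.card P = p ^ (k + 1) := by
      rw [← Core.card_mul_relIndex_of_le hNP, ← card_map_mk, hk, hN, pow_succ']
    rw [← P.card_mul_index] at h2
    have a2 := ((hp.out.coprime_iff_not_dvd.2 h6).pow_left 2).dvd_of_dvd_mul_right h2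
    rw [a1] at a2 ⊢
    have := (Nat.pow_dvd_pow_iff_le_right hp.out.one_lt).1 a2
    rw [show k = 1 by omega]
  have : IsMulCommutative P := IsPGroup.isMulCommutative_of_card_eq_prime_sq h7
  have h8 := card_le_kin' P
  rw [le_antisymm hC (le_centralizer P), h7] at h8
  have h9 := kin_add P
  rw [kk_comm h5, ← index_eq_card] at h9
  have h10 := kin_pos P
  have := num_big (p := p) (a := kin P - 1) (b := P.index) (w := p ^ 2 - 1) (M := 1) one_pos (by
    rw [mul_one, Nat.sub_mul]
    omega) (by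
    have := Nat.pow_le_pow_left h11 2
    omega)
  omega

universe u

theorem main {p : ℕ} [hp : Fact p.Prime] (h11 : 11 ≤ p) (n : ℕ) : ∀ (G : Type u) [Group G] [Finite G]
    [Group.IsSolvable G], Nat.card G = n → p ^ 2 ∣ n → 49 * p ≤ 60 * kk G := by
  induction n using Nat.strong_induction_on with | h n ih => ?_
  intro G _ _ _ hn hd
  subst hn
  by_cases hq : ∃ N : Subgroup G, N.Normal ∧ N ≠ ⊥ ∧ p ^ 2 ∣ N.index
  · obtain ⟨N, _, h1, h2⟩ := hq
    refine (ih _ ?_ (G ⧸ N) rfl h2).trans (Nat.mul_le_mul_left _ (kQuot _ (QuotientGroup.mk'_surjective N)))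
    rw [card_eq_card_quotient_mul_card_subgroup N]
    exact lt_mul_of_one_lt_right Nat.card_pos ((one_lt_card_iff_ne_bot N).2 h1)
  push Not at hq
  have h3 : pPrimeCore p G = ⊥ := Core.pPrimeCore_eq_bot_iff.2 fun N hN h => by
    by_contra h0
    rw [← N.card_mul_index] at hd
    exact hq N hN h0 ((h.symm.pow_left 2).dvd_of_dvd_mul_left hd)
  have : Nontrivial G := Finite.one_lt_card_iff_nontrivial.1
    (lt_of_lt_of_le (Nat.one_lt_pow two_ne_zero hp.out.one_lt) (Nat.le_of_dvd Nat.card_pos hd))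
  obtain ⟨q, N, hq', hN, hN1, hNq, -, hmin⟩ := SolvStruct.exists_normal_pgroup_of_solvable (G := G)
  have := Fact.mk hq'
  obtain ⟨k, hk⟩ := IsPGroup.iff_card.1 hNq
  obtain rfl : q = p := by
    by_contra h
    exact hN1 (Core.pPrimeCore_eq_bot_iff.1 h3 N hN (hk ▸ ((Nat.coprime_primes hq' hp.out).2 h).pow_left k))
  rcases k with _ | _ | k
  · exact absurd (card_eq_one.1 hk) hN1
  · exact small_case h11 (by simpa using hk) (hq N hN hN1) hd h3
  · exact big_case h11 hNq hmin (hk ▸ Nat.pow_le_pow_right hq'.pos (by omega))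

theorem result {G : Type*} [Group G] [Finite G] [Group.IsSolvable G] {p : ℕ} [hp : Fact p.Prime]
    (h : p ^ 2 ∣ Nat.card G) : 49 * p ≤ 60 * kk G := by
  by_cases h7 : p ≤ 7
  · exact small hp.out h7 h
  refine main ?_ _ G rfl h
  by_contra h11
  have := hp.out
  have : 8 ≤ p := by omega
  have : p ≤ 10 := by omega
  interval_cases p <;> norm_num at *

end CfsgLib.HK
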