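import Cfsg.Agent.Lib.HK.Defs
import Cfsg.Agent.Lib.Fgs.AutBound
import Cfsg.Agent.Lib.VanP.A

/-! HK, package PRM: orders of solvable permutation and linear groups (plans/HK.md). -/

set_option autoImplicit false
set_option linter.unusedSectionVars false

namespace CfsgLib.HK
open Subgroup MulAction Cfsg CfsgLib.Base
open Cfsg.Agent.S4190 (kk cnt idx_le kSub kAb kQuot kk_pos gen)
open scoped commutatorElement Pointwise

variable {G : Type*} [Group G] [Finite G]

theorem index_core_le {X S : Subgroup G} (h : X ≤ S) (hn : S ≤ normalizer (X : Set G)) :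
    X.normalCore.index ≤ S.normalCore.index * X.relIndex S ^ S.index := by
  have m : ∀ (a : S.normalCore) (g : G), g⁻¹ * a * g ∈ S := fun a g =>
    normalCore_le S (Normal.conj_mem' inferInstance _ a.2 g)
  rw [← relIndex_mul_index (normalCore_mono h), mul_comm]
  refine Nat.mul_le_mul_left _ ((idx_le (B := X.normalCore) (β := G ⧸ S → S ⧸ X.subgroupOf S)
    (fun a q => QuotientGroup.mk ⟨_, m a q.out⟩) fun a b e g => ?_).trans (Nat.card_fun ..).le)
  obtain ⟨s, hs⟩ := QuotientGroup.mk_out_eq_mul S g⁻¹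
  have e1 := QuotientGroup.eq.1 (congrFun e (QuotientGroup.mk g⁻¹))
  rw [mem_subgroupOf, coe_mul, coe_inv] at e1
  dsimp only at e1
  rw [hs] at e1
  have := (mem_normalizer_iff.1 (hn s.2) _).1 e1
  convert this using 1
  group

theorem core_le_factorial (S : Subgroup G) : S.normalCore.index ≤ S.index.factorial := by
  rw [Subgroup.normalCore_eq_ker, Subgroup.index_ker, Subgroup.index_eq_card, ← Nat.card_perm]
  exact Subgroup.card_le_card_group _

theorem prm_num {n r : ℕ} (h5 : 5 ≤ n) (h : 2 ^ r ≤ n) : n * (n - 1).descFactorial r ≤ 3 ^ (n - 1) := by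
  by_cases c : n < 64
  · have hr : r < 6 := (Nat.pow_lt_pow_iff_right one_lt_two).1 (h.trans_lt c)
    have : ∀ n < 64, ∀ r < 6, 5 ≤ n → 2 ^ r ≤ n → n * (n - 1).descFactorial r ≤ 3 ^ (n - 1) := by decide +kernel
    exact this n c r hr h5 h
  have sq : ∀ k : ℕ, (k + 6 + 1) * (k + 6 + 1) < 2 ^ (k + 6) := fun k => by
    induction k with
    | zero => norm_num
    | succ k ih => rw [show k + 1 + 6 = k + 6 + 1 by omega, pow_succ]; nlinarith
  have l1 : r ≤ Nat.log 2 n := Nat.le_log_of_pow_le one_lt_two h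
  have l2 : 6 ≤ Nat.log 2 n := Nat.le_log_of_pow_le one_lt_two (by omega)
  have l3 := Nat.lt_pow_succ_log_self one_lt_two n
  have l4 := Nat.pow_log_le_self 2 (show n ≠ 0 by omega)
  obtain ⟨k, hk⟩ : ∃ k, Nat.log 2 n = k + 6 := ⟨_, (Nat.sub_add_cancel l2).symm⟩
  rw [hk] at l1 l3 l4
  have := sq k
  calc n * (n - 1).descFactorial r ≤ n * n ^ r :=
        Nat.mul_le_mul_left _ ((Nat.descFactorial_le_pow _ _).trans (Nat.pow_le_pow_left (Nat.sub_le _ _) r))
    _ ≤ n ^ (k + 6 + 1) := by rw [← pow_succ']; exact Nat.pow_le_pow_right (by omega) (by omega)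
    _ ≤ (2 ^ (k + 6 + 1)) ^ (k + 6 + 1) := Nat.pow_le_pow_left l3.le _
    _ ≤ 2 ^ (n - 1) := by rw [← pow_mul]; exact Nat.pow_le_pow_right two_pos (by omega)
    _ ≤ _ := Nat.pow_le_pow_left (by norm_num) _

theorem prm_free [Group.IsSolvable G] {S : Subgroup G} (hS : IsCoatom S) (hc : S.normalCore = ⊥)
    (h5 : 5 ≤ S.index) : Nat.card G ≤ 3 ^ (S.index - 1) := by
  classical
  have : Nontrivial G := by
    by_contra h
    have := not_nontrivial_iff_subsingleton.1 h
    exact hS.1 (Subsingleton.elim _ _)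
  obtain ⟨p, M, -, hM, M0, he, -⟩ := Core.exists_elementaryAbelian_minimal_normal G
  have hC := SolvStruct.centralizer_inf_eq_bot_of_corefree hS hc M0
  have : IsMulCommutative M := he.1
  have hi := (SolvStruct.index_eq_card_of_inf_eq_bot_of_sup_eq_top
    (le_bot_iff.1 ((inf_le_inf_right S (le_centralizer M)).trans hC.le))
    (SolvStruct.sup_eq_top_of_corefree hS hc M0)).index_eq_card
  obtain ⟨T, t1, t2, t3⟩ := gen ⊥ M bot_le
  rw [relIndex_bot_left, ← hi] at t3
  rw [bot_sup_eq] at t2
  let F : S → (T.erase 1 ↪ {m : M // m ≠ 1}) := fun s =>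
    ⟨fun t => ⟨⟨s * t * (s : G)⁻¹, hM.conj_mem _ (t1 _ (Finset.mem_of_mem_erase t.2)) s⟩, fun e =>
      Finset.ne_of_mem_erase t.2 (conj_eq_one_iff.1 (congrArg Subtype.val e))⟩, fun t t' e =>
      Subtype.ext (mul_left_cancel (mul_right_cancel (congrArg (fun x : {m : M // m ≠ 1} => (x.1 : G)) e)))⟩
  have inj : Function.Injective F := fun s s' e => by
    have : (s' : G)⁻¹ * s ∈ centralizer (M : Set G) ⊓ S := by
      refine ⟨?_, S.mul_mem (S.inv_mem s'.2) s.2⟩
      rw [← t2, SetLike.mem_coe, centralizer_closure]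
      intro t ht
      by_cases c : t = 1
      · rw [c, one_mul, mul_one]
      have e1 : (s : G) * t * (s : G)⁻¹ = s' * t * (s' : G)⁻¹ :=
        congrArg (fun f : T.erase 1 ↪ {m : M // m ≠ 1} => ((f ⟨t, Finset.mem_erase.2 ⟨c, ht⟩⟩).1 : G)) e
      calc t * ((s' : G)⁻¹ * s) = (s' : G)⁻¹ * (s' * t * (s' : G)⁻¹) * s := by group
        _ = _ := by rw [← e1]; group
    rw [hC, mem_bot, inv_mul_eq_one] at this
    exact Subtype.ext this.symm
  have := Fintype.ofFinite M
  have c := Nat.card_le_card_of_injective F inj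
  rw [Nat.card_eq_fintype_card (α := _ ↪ _), Fintype.card_embedding_eq, Fintype.card_subtype_compl,
    Fintype.card_subtype_eq, Fintype.card_coe, ← Nat.card_eq_fintype_card, ← hi] at c
  rw [← S.index_mul_card]
  exact (Nat.mul_le_mul_left _ c).trans (prm_num h5
    ((Nat.pow_le_pow_right two_pos (Finset.card_erase_le)).trans t3))

theorem prm_coatom [Group.IsSolvable G] {H : Subgroup G} (hH : IsCoatom H) :
    H.normalCore.index ≤ 3 ^ (H.index - 1) := by
  by_cases c : H.index ≤ 4
  · refine (core_le_factorial H).trans ?_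
    generalize H.index = n at c
    interval_cases n <;> decide
  let π := QuotientGroup.mk' H.normalCore
  have hπ : Function.Surjective π := QuotientGroup.mk'_surjective _
  have hk : π.ker ≤ H := by rw [QuotientGroup.ker_mk']; exact normalCore_le H
  have h1 : (H.map π).comap π = H := comap_map_eq_self hk
  have h2 : (H.map π).index = H.index := by rw [← index_comap_of_surjective _ hπ, h1]
  rw [← h2]
  refine prm_free ⟨fun h => hH.1 (by rw [← h1, h, comap_top]), fun M hM => by
      rw [← map_comap_eq_self_of_surjective hπ M, hH.2 (M.comap π)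
        (h1.symm.trans_lt ((comap_lt_comap_of_surjective hπ).2 hM)), map_top_of_surjective _ hπ]⟩ ?_ (by omega)
  rw [← map_comap_eq_self_of_surjective hπ (H.map π).normalCore, Subgroup.map_eq_bot_iff,
    QuotientGroup.ker_mk', normal_le_normalCore]
  exact (comap_mono (normalCore_le _)).trans h1.le

theorem core_le_three_pow [Group.IsSolvable G] (S : Subgroup G) : S.normalCore.index ≤ 3 ^ (S.index - 1) := by
  induction S using WellFoundedGT.induction with
  | ind S ih =>
  by_cases h1 : S = ⊤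
  · subst h1
    rw [normalCore_eq_self, index_top]
    exact Nat.one_le_pow _ _ three_pos
  obtain ⟨L, hL⟩ := exists_covBy_of_wellFoundedLT (a := S) (by simpa using h1)
  have hX : (S.subgroupOf L).normalCore.map L.subtype ≤ S :=
    (map_mono (normalCore_le _)).trans (map_subgroupOf_eq_of_le hL.le).le
  have k1 := index_core_le (map_subtype_le (S.subgroupOf L).normalCore) (by
    refine le_trans ?_ (le_normalizer_map L.subtype)
    rw [normalizer_eq_top, ← MonoidHom.range_eq_map, range_subtype])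
  have k2 := prm_coatom (isCoatom_subgroupOf hL)
  have k3 : ((S.subgroupOf L).normalCore.map L.subtype).relIndex L = (S.subgroupOf L).normalCore.index := by
    rw [relIndex, ← comap_subtype, comap_map_eq_self_of_injective L.subtype_injective]
  have k4 : (S.subgroupOf L).index * L.index = S.index := relIndex_mul_index hL.le
  have a0 : L.index ≠ 0 := index_ne_zero_of_finite
  have b0 : (S.subgroupOf L).index ≠ 0 := index_ne_zero_of_finite
  refine (index_antitone (normalCore_mono hX)).trans (k1.trans ((Nat.mul_le_mul (ih L hL.lt)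
    (Nat.pow_le_pow_left (k3.le.trans k2) _)).trans ?_))
  rw [← pow_mul, ← pow_add, ← k4]
  obtain ⟨a, ha⟩ := Nat.exists_eq_succ_of_ne_zero a0
  obtain ⟨b, hb⟩ := Nat.exists_eq_succ_of_ne_zero b0
  rw [ha, hb]
  refine (congrArg (3 ^ ·) ?_).le
  simp only [Nat.succ_eq_add_one, Nat.add_sub_cancel, add_mul, one_mul]
  omega

theorem prm_comm [Group.IsNilpotent G] (h : ∀ p : ℕ, p.Prime → ¬ p ^ 3 ∣ Nat.card G) (a b : G) : a * b = b * a := by
  have (p : { x // x ∈ (Nat.card G).primeFactors }) : Fact p.1.Prime := ⟨Nat.prime_of_mem_primeFactors p.2⟩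
  obtain ⟨ϕ⟩ := ((Group.isNilpotent_of_finite_tfae (G := G)).out 0 4).mp ‹_›
  refine ϕ.symm.injective ?_
  rw [map_mul, map_mul]
  funext p P
  obtain ⟨k, hk⟩ := IsPGroup.iff_card.1 P.isPGroup'
  have h1 : k < 3 := by
    by_contra h1
    exact h p (this p).out ((pow_dvd_pow _ (not_lt.1 h1)).trans (hk ▸ card_subgroup_dvd_card _))
  have : IsMulCommutative (P : Subgroup G) := by
    interval_cases k
    · have := (Nat.card_eq_one_iff_unique.1 hk).1
      exact ⟨⟨fun a b => Subsingleton.elim _ _⟩⟩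
    · exact (isCyclic_of_prime_card (p := p) (by rw [hk, pow_one])).isMulCommutative
    · exact IsPGroup.isMulCommutative_of_card_eq_prime_sq hk
  exact mul_comm' _ _

theorem prm_aut {p n N : ℕ} [hp : Fact p.Prime] (h : Nat.card G = p ^ n)
    (hN : ∀ r ≤ n, p ^ (r * (n - r)) * ∏ i ∈ Finset.range r, (p ^ r - p ^ i) ∣ N) : Nat.card (MulAut G) ∣ N := by
  obtain ⟨r, h1, h2⟩ := (Nat.dvd_prime_pow hp.out).1 (h ▸ (frattini G).index_dvd_card)
  exact (Fgs.card_mulAut_dvd h h2).trans (hN r h1)

theorem aut_sixteen {U : Type*} [CommGroup U] [Finite U] (hU : Nat.card U = 16) (T : Subgroup (MulAut U))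
    [Group.IsSolvable T] (h : pCore 2 T = ⊥) : Nat.card T ≤ 144 := by
  have hT : Nat.card T ∣ 20160 := (card_subgroup_dvd_card T).trans (prm_aut (p := 2) (n := 4) hU (by decide))
  have := Core.fittingSubgroup_normal T
  have := Core.isNilpotent_fittingSubgroup T
  have hC := Core.centralizer_fittingSubgroup_le (G := T)
  have cop : (Nat.card (fittingSubgroup T)).Coprime 2 := Nat.Coprime.coprime_dvd_left
    (card_dvd_of_le (Core.fittingSubgroup_le_pPrimeCore_of_pCore_eq_bot Nat.prime_two h))
    (Core.coprime_card_pPrimeCore 2 T)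
  generalize fittingSubgroup T = L at *
  have hL : Nat.card L ∣ 315 := (cop.pow_right 6).dvd_of_dvd_mul_left ((card_subgroup_dvd_card L).trans hT)
  have cm := prm_comm (G := L) fun p hp c => by
    have c1 := c.trans hL
    have c2 : p ≤ 7 := by
      by_contra c2
      have : 8 ^ 3 ≤ 315 := (Nat.pow_le_pow_left (not_le.1 c2) 3).trans (Nat.le_of_dvd (by norm_num) c1)
      omega
    have := hp.two_le
    interval_cases p <;> omega
  obtain ⟨v, -, hv⟩ := VanP.exists_reg (V := U) (Set.range fun l : L => (l.1.1 : MulAut U).toMonoidHom)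
    (n := Nat.card L) (by
      rintro _ ⟨l, rfl⟩ v
      have : l.1.1 ^ Nat.card L = 1 := congrArg (fun x : L => x.1.1) (pow_card_eq_one' (x := l))
      have e : ∀ n, (⇑(l.1.1))^[n] v = (l.1.1 ^ n) v := fun n => by
        induction n with
        | zero => rfl
        | succ n ih => rw [Function.iterate_succ_apply', ih, pow_succ']; rfl
      exact (e _).trans (by rw [this]; rfl)) (by
      rintro _ ⟨l, rfl⟩ _ ⟨l', rfl⟩ v
      exact congrArg (fun x : L => x.1.1 v) (cm l l')) (fun v hv => by
      have a := orderOf_dvd_of_pow_eq_one hv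
      have b : orderOf v ∣ 2 ^ 4 := (orderOf_dvd_natCard v).trans hU.dvd
      exact orderOf_eq_one_iff.1 (Nat.eq_one_of_dvd_coprimes (cop.pow_right 4) a b)) ⊤ fun _ _ _ _ => trivial
  have l16 : Nat.card L ≤ 16 := hU ▸ Nat.card_le_card_of_injective (fun l : L => l.1.1 v) fun l l' e => by
    have := hv _ ⟨l'⁻¹ * l, rfl⟩ (by
      change l'.1.1.symm (l.1.1 v) = v
      rw [MulEquiv.symm_apply_eq]; exact e)
    exact (inv_mul_eq_one.1 (Subtype.ext (Subtype.ext (MulEquiv.ext fun w => this w trivial)))).symm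
  have hi : L.index ∣ Nat.card (MulAut L) := by
    have : (MulAut.conjNormal : T →* MulAut L).ker ≤ L := fun g hg => hC fun x hx => by
      have := congrArg (fun f : MulAut L => (f ⟨x, hx⟩ : T)) (MonoidHom.mem_ker.1 hg)
      exact (mul_inv_eq_iff_eq_mul.1 this).symm
    exact (index_dvd_of_le this).trans (index_ker (MulAut.conjNormal : T →* MulAut L) ▸ card_subgroup_dvd_card _)
  rw [← L.index_mul_card] at hT ⊢
  by_cases c : Nat.card L = 9
  · have : Fact (Nat.Prime 3) := ⟨Nat.prime_three⟩
    have a := hi.trans (prm_aut (p := 3) (n := 2) (N := 48) c (by decide))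
    rw [c] at hT ⊢
    have b : L.index ∣ 2240 := Nat.dvd_of_mul_dvd_mul_right (by norm_num : 0 < 9) hT
    have := Nat.le_of_dvd (by norm_num) (Nat.dvd_gcd a b)
    norm_num at this
    omega
  have key : ∀ n ≤ 16, n ∣ 315 → n ≠ 9 → Squarefree n ∧ 0 < n.totient ∧ n.totient * n ≤ 144 := by decide +kernel
  obtain ⟨k1, k2, k3⟩ := key _ l16 hL c
  have := IsZGroup.of_squarefree k1
  rw [IsCyclic.card_mulAut] at hi
  exact (Nat.mul_le_mul_right _ (Nat.le_of_dvd k2 hi)).trans k3

end CfsgLib.HK
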