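import Cfsg.Agent.Lib.HK.Prm
import Cfsg.Agent.Lib.Fgs.AutBound
import Cfsg.Agent.Lib.Dickson.SmallRecog

/-! HK, package SYM: the symplectic section of a primitive solvable linear group (plans/HK.md). -/

set_option autoImplicit false
set_option linter.unusedSectionVars false

namespace CfsgLib.HK
open Subgroup MulAction Cfsg CfsgLib.Base
open Cfsg.Agent.S4190 (kk cnt idx_le kSub kAb kQuot kk_pos gen)
open scoped commutatorElement Pointwise IsMulCommutative

theorem sym_gen {G : Type*} [Group G] [Finite G] {A B : Subgroup G} (hc : ⁅B, B⁆ ≤ A)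
    (hs : Squarefree (A.relIndex B)) : ∃ x ∈ B, ∀ b ∈ B, ∃ n : ℤ, (x ^ n)⁻¹ * b ∈ A := by
  have hn : (A.subgroupOf B).Normal := ⟨fun a ha b => by
    have : ((b * a * b⁻¹ : B) : G) = ⁅(b : G), (a : G)⁆ * a := by simp [commutatorElement_def]
    rw [mem_subgroupOf, this]
    exact mul_mem (hc (commutator_mem_commutator b.2 a.2)) ha⟩
  have : IsMulCommutative (B ⧸ A.subgroupOf B) := ⟨⟨fun x y => by
    obtain ⟨x, rfl⟩ := QuotientGroup.mk_surjective x
    obtain ⟨y, rfl⟩ := QuotientGroup.mk_surjective y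
    rw [← commutatorElement_eq_one_iff_mul_comm, ← QuotientGroup.mk'_apply, ← QuotientGroup.mk'_apply,
      ← map_commutatorElement, QuotientGroup.mk'_apply, QuotientGroup.eq_one_iff]
    exact hc (commutator_mem_commutator x.2 y.2)⟩⟩
  have : IsZGroup (B ⧸ A.subgroupOf B) := IsZGroup.of_squarefree hs
  have : IsCyclic (B ⧸ A.subgroupOf B) := inferInstance
  obtain ⟨x, hx⟩ := IsCyclic.exists_generator (α := B ⧸ A.subgroupOf B)
  obtain ⟨x, rfl⟩ := QuotientGroup.mk_surjective x
  refine ⟨x, x.2, fun b hb => ?_⟩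
  obtain ⟨n, hn⟩ := hx (QuotientGroup.mk ⟨b, hb⟩)
  exact ⟨n, QuotientGroup.eq (s := A.subgroupOf B).1 ((QuotientGroup.mk_zpow _ x n).trans hn)⟩

theorem sym_perm {α : Type*} [Finite α] (h : Nat.card α = 4) (σ : Equiv.Perm α) (h6 : σ ^ 6 = 1) :
    σ ^ 2 = 1 ∨ (σ ^ 3 = 1 ∧ ∀ a b, a ≠ b → σ a = a → σ b = b → σ = 1) := by
  have key : ∀ τ : Equiv.Perm (Fin 4), τ ^ 6 = 1 →
      τ ^ 2 = 1 ∨ (τ ^ 3 = 1 ∧ ∀ a b, a ≠ b → τ a = a → τ b = b → τ = 1) := by decide +kernel
  let e := Finite.equivFinOfCardEq h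
  let φ := e.permCongrHom
  rcases key (φ σ) (by rw [← map_pow, h6, map_one]) with h1 | ⟨h1, h2⟩
  · exact Or.inl (φ.injective (by rw [map_pow, h1, map_one]))
  · refine Or.inr ⟨φ.injective (by rw [map_pow, h1, map_one]), fun a b hab ha hb => φ.injective ?_⟩
    rw [map_one]
    exact h2 (e a) (e b) (e.injective.ne hab) (by simp [φ, ha]) (by simp [φ, hb])

universe u

variable {G : Type u} {V K : Type*} [Group G] [AddCommGroup V] [DistribMulAction G V] [Field K] [Module K V]
  [Finite G] [Group.IsSolvable G] [FaithfulSMul G V] (S : PSetup G V K)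

/-- the image of `F` modulo `A` -/
def symM : Subgroup (G ⧸ S.A) := S.F.map (QuotientGroup.mk' S.A)

instance : (symM S).Normal := Normal.map inferInstance _ (QuotientGroup.mk'_surjective _)

instance : IsMulCommutative (symM S) := le_centralizer_iff_isMulCommutative.1
  (commutator_eq_bot_iff_le_centralizer.1 (by
    rw [symM, ← map_commutator, Subgroup.map_eq_bot_iff, QuotientGroup.ker_mk']
    exact PSetup.commutator_le))

theorem card_map_mk {A : Subgroup G} [A.Normal] (B : Subgroup G) :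
    Nat.card (B.map (QuotientGroup.mk' A)) = A.relIndex B := by
  rw [← relIndex_ker, QuotientGroup.ker_mk']

theorem mem_F' {g : G} (hC : g ∈ centralizer (S.A : Set G))
    (hg : (g : G ⧸ S.A) ∈ centralizer (symM S : Set (G ⧸ S.A))) : g ∈ S.F := by
  let π := QuotientGroup.mk' S.A
  let T := (centralizer (symM S : Set (G ⧸ S.A))).comap π ⊓ centralizer (S.A : Set G)
  have h1 : ⁅S.F, T⁆ ≤ S.A := Subgroup.commutator_le.2 fun f hf t ht => by
    rw [← QuotientGroup.ker_mk' S.A, MonoidHom.mem_ker, map_commutatorElement,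
      commutatorElement_eq_one_iff_mul_comm]
    exact ht.1 _ (mem_map_of_mem π hf)
  have h2 : ∀ B ≤ S.A, ⁅B, T⁆ = ⊥ := fun B hB => commutator_eq_bot_iff_le_centralizer.2
    (hB.trans (le_centralizer_iff.1 inf_le_right))
  have h3 : ⁅⁅T, T⁆, S.F⁆ = ⊥ := commutator_commutator_eq_bot_of_rotate
    (h2 _ (by rwa [commutator_comm])) (h2 _ h1)
  exact ⟨Core.le_fittingSubgroup (N := T) (Core.isNilpotent_of_commutator_commutator_eq_bot
    (h2 _ fun x hx => PSetup.mem_A (commutator_le_left T T hx).2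
      (commutator_eq_bot_iff_le_centralizer.1 h3 hx))) ⟨hg, hC⟩, hC⟩

theorem exists_lag : ∃ B : Subgroup G, S.A ≤ B ∧ B ≤ S.F ∧ centralizer (B : Set G) ⊓ S.F = B ∧
    S.A.relIndex B = B.relIndex S.F := by
  obtain ⟨B, ⟨h1, h2, h3⟩, hm⟩ := exists_maximal_of_wellFoundedGT
    (fun B : Subgroup G => S.A ≤ B ∧ B ≤ S.F ∧ IsMulCommutative B) ⟨S.A, le_rfl, PSetup.A_le_F, inferInstance⟩
  have h4 : centralizer (B : Set G) ⊓ S.F = B := le_antisymm (fun x hx =>
    hm (y := zpowers x ⊔ B) ⟨h1.trans le_sup_right, sup_le (zpowers_le.2 hx.2) h2,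
      Core.isMulCommutative_sup (zpowers_le.2 hx.1)⟩ le_sup_right (mem_sup_left (mem_zpowers x)))
    (le_inf (le_centralizer B) h2)
  have h5 := Perm.relIndex_centralizer_comm S.ι PSetup.ι_injective B S.F (h2.trans inf_le_right) inf_le_right
    fun x hx y hy => PSetup.commutator_le (commutator_mem_commutator (h2 hx) hy)
  have h6 : centralizer (S.F : Set G) ⊓ B = S.A := le_antisymm
    (fun x hx => PSetup.mem_A (h2 hx.2).2 hx.1) (le_inf (le_centralizer_iff.1 inf_le_right) h1)
  rw [← inf_relIndex_right, h6, ← inf_relIndex_right (centralizer _), h4] at h5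
  exact ⟨B, h1, h2, h4, h5⟩

theorem t_one (h : S.A.relIndex S.F = 1) : S.F.relIndex (centralizer (S.A : Set G)) = 1 :=
  relIndex_eq_one.2 fun g hg => mem_F' S hg (by
    rintro _ ⟨f, hf, rfl⟩
    rw [QuotientGroup.mk'_apply, (QuotientGroup.eq_one_iff f).2 (relIndex_eq_one.1 h hf), one_mul, mul_one])

theorem t_sqfree {B : Subgroup G} (h1 : S.A ≤ B) (h2 : B ≤ S.F) (h3 : centralizer (B : Set G) ⊓ S.F = B)
    {e : ℕ} (e1 : S.A.relIndex B = e) (e2 : B.relIndex S.F = e) (hs : Squarefree e) (he : 1 < e) :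
    S.F.relIndex (centralizer (S.A : Set G)) ≤ (e ^ 2 - 1) * e := by
  let π := QuotientGroup.mk' S.A
  have hk : ∀ a, π a = 1 ↔ a ∈ S.A := fun a => QuotientGroup.eq_one_iff a
  obtain ⟨x, hx, hx'⟩ := sym_gen (A := S.A) (B := B) ((commutator_mono h2 h2).trans PSetup.commutator_le) (e1 ▸ hs)
  obtain ⟨y, hy, hy'⟩ := sym_gen (A := B) (B := S.F) (PSetup.commutator_le.trans h1) (e2 ▸ hs)
  have hx1 : π x ≠ 1 := fun h => he.ne' (e1 ▸ relIndex_eq_one.2 fun b hb => by
    obtain ⟨n, hn⟩ := hx' b hb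
    simpa using mul_mem (zpow_mem ((hk x).1 h) n) hn)
  let D := centralizer (S.A : Set G) ⊓ (centralizer {π x}).comap π
  have hFD : S.F ≤ D := le_inf inf_le_right fun f hf => mem_centralizer_singleton_iff.2
    (setLike_mul_comm (s := symM S) (mem_map_of_mem π hf) (mem_map_of_mem π (h2 hx)))
  rw [← relIndex_mul_relIndex _ D _ hFD inf_le_left, mul_comm]
  refine Nat.mul_le_mul ?_ ?_
  · refine (idx_le (B := D) (β := {q : symM S // q ≠ 1}) (fun c => ⟨⟨π c * π x * (π c)⁻¹,
      Normal.conj_mem inferInstance _ (mem_map_of_mem π (h2 hx)) _⟩, fun h => hx1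
        (conj_eq_one_iff.1 (congrArg Subtype.val h))⟩) fun a b h =>
          mem_inf.2 ⟨mul_mem (inv_mem a.2) b.2, ?_⟩).trans ?_
    · have h4 : π a * π x * (π a)⁻¹ = π b * π x * (π b)⁻¹ := congrArg (fun q => (q.1 : G ⧸ S.A)) h
      rw [mem_comap, mem_centralizer_singleton_iff, map_mul, map_inv]
      calc _ = (π a)⁻¹ * (π b * π x * (π b)⁻¹) * π b := by group
        _ = _ := by rw [← h4]; group
    · have := Fintype.ofFinite (symM S)
      classical
      rw [Nat.card_eq_fintype_card, Fintype.card_subtype_compl, Fintype.card_subtype_eq,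
        ← Nat.card_eq_fintype_card, symM, card_map_mk, ← relIndex_mul_relIndex _ _ _ h1 h2, e1, e2, pow_two]
  · have hm : ∀ d ∈ D, y⁻¹ * (d * y * d⁻¹) ∈ B := fun d hd => by
      have a0 : y⁻¹ * (d * y * d⁻¹) ∈ S.F := mul_mem (inv_mem hy) (Normal.conj_mem inferInstance _ hy _)
      refine h3.le ⟨fun b hb => ?_, a0⟩
      obtain ⟨n, hn⟩ := hx' b hb
      have a1 : x⁻¹ * (d⁻¹ * x * d) ∈ S.A := by
        rw [← hk, map_mul, map_mul, map_mul, map_inv, map_inv, mul_assoc (π d)⁻¹,
          ← mem_centralizer_singleton_iff.1 hd.2]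
        group
      have a2 := PSetup.commutator_le (commutator_mem_commutator (h2 hx) hy)
      have a3 := hd.1 _ a2
      have a4 := hy.2 _ a1
      have a5 : Commute x (y⁻¹ * (d * y * d⁻¹)) := by
        have a6 : d * ⁅d⁻¹ * x * d, y⁆ * d⁻¹ = ⁅x, y⁆ := by
          have : ⁅d⁻¹ * x * d, y⁆ = ⁅x, y⁆ := by
            rw [commutatorElement_def, commutatorElement_def]
            calc _ = x * (x⁻¹ * (d⁻¹ * x * d) * y) * (d⁻¹ * x * d)⁻¹ * y⁻¹ := by group
              _ = _ := by rw [a4]; group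
          rw [this, ← a3, mul_inv_cancel_right]
        rw [commutatorElement_def, commutatorElement_def] at a6
        calc x * (y⁻¹ * (d * y * d⁻¹)) = y⁻¹ * ((x * y * x⁻¹ * y⁻¹)⁻¹ * x) * (d * y * d⁻¹) := by group
          _ = _ := by rw [← a6]; group
      have a7 : Commute ((x ^ n)⁻¹ * b) (y⁻¹ * (d * y * d⁻¹)) := a0.2 _ hn
      simpa using ((a5.zpow_left n).mul_left a7).eq
    refine (idx_le (β := B.map π) (fun d => ⟨_, mem_map_of_mem π (hm d d.2)⟩) fun a b h => ?_).trans
      (by rw [card_map_mk, e1])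
    have hd := mul_mem (inv_mem a.2) b.2
    refine mem_F' S hd.1 ?_
    rintro _ ⟨f, hf, rfl⟩
    have h4 : π (y⁻¹ * (a * y * (a : G)⁻¹)) = π (y⁻¹ * (b * y * (b : G)⁻¹)) := congrArg Subtype.val h
    simp only [map_mul, map_inv, mul_right_inj] at h4
    have h5 : Commute (π y) (π ((a : G)⁻¹ * b)) := by
      rw [map_mul, map_inv]
      calc _ = (π a)⁻¹ * (π a * π y * (π a)⁻¹) * π b := by group
        _ = _ := by rw [h4]; group
    have h6 : Commute (π x) (π ((a : G)⁻¹ * b)) := (mem_centralizer_singleton_iff.1 hd.2).symm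
    obtain ⟨n, hn⟩ := hy' f hf
    obtain ⟨m, hm⟩ := hx' _ hn
    have h7 : π f = π y ^ n * π x ^ m := by
      have := (hk _).2 hm
      simp only [map_mul, map_inv, map_zpow] at this
      rw [← mul_one (_ * _), ← this]
      group
    change π f * π _ = π _ * π f
    rw [h7]
    exact ((h5.zpow_left n).mul_left (h6.zpow_left m)).eq

/-- the action of the centraliser of `A` on `F/A` -/
def symRho : centralizer (S.A : Set G) →* MulAut (symM S) :=
  MulAut.conjNormal.comp ((QuotientGroup.mk' S.A).comp (centralizer (S.A : Set G)).subtype)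

theorem symRho_ker : (symRho S).ker = S.F.subgroupOf (centralizer (S.A : Set G)) := by
  ext c
  refine ⟨fun h => mem_F' S c.2 fun m hm => ?_, fun h => MulEquiv.ext fun m => Subtype.ext ?_⟩
  · exact (mul_inv_eq_iff_eq_mul.1 (congrArg Subtype.val (DFunLike.congr_fun h (⟨m, hm⟩ : symM S)) :)).symm
  · exact mul_inv_eq_iff_eq_mul.2 (setLike_mul_comm (s := symM S) (mem_map_of_mem _ h) m.2)

theorem card_symRho : Nat.card (symRho S).range = S.F.relIndex (centralizer (S.A : Set G)) := by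
  rw [← index_ker, symRho_ker, relIndex]

theorem t_four (h : S.A.relIndex S.F = 4) : S.F.relIndex (centralizer (S.A : Set G)) ∣ 6 := by
  have h1 : Nat.card (symM S) = 2 ^ 2 := (card_map_mk _).trans h
  obtain ⟨r, hr, h2⟩ := (Nat.dvd_prime_pow Nat.prime_two).1 (h1 ▸ (frattini (symM S)).index_dvd_card)
  rw [← card_symRho]
  refine (card_subgroup_dvd_card _).trans ((Fgs.card_mulAut_dvd h1 h2).trans ?_)
  interval_cases r <;> decide

theorem t_sixteen (h : S.A.relIndex S.F = 16) : S.F.relIndex (centralizer (S.A : Set G)) ≤ 144 := by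
  have h1 : Nat.card (symM S) = 16 := (card_map_mk _).trans h
  rw [← card_symRho]
  have : Group.IsSolvable (symRho S).range :=
    Group.isSolvable_of_surjective (MonoidHom.rangeRestrict_surjective _)
  refine aut_sixteen h1 _ ?_
  have : (pCore 2 (symRho S).range).Normal := pCore_normal _ _
  have hP := Core.isPGroup_pCore 2 (symRho S).range
  let R := (pCore 2 (symRho S).range).comap (symRho S).rangeRestrict
  let ψ : R →* G ⧸ S.A := (QuotientGroup.mk' S.A).comp ((centralizer (S.A : Set G)).subtype.comp R.subtype)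
  have h2 : IsPGroup 2 ψ.range := by
    rintro ⟨_, r, rfl⟩
    obtain ⟨k, hk⟩ := hP ⟨_, r.2⟩
    have h3 : (r : centralizer (S.A : Set G)) ^ 2 ^ k ∈ (symRho S).ker := by
      rw [MonoidHom.mem_ker, map_pow]
      exact congrArg (fun q => (q.1.1 : MulAut (symM S))) hk
    rw [symRho_ker] at h3
    refine ⟨k + 4, Subtype.ext ?_⟩
    have := congrArg Subtype.val (pow_card_eq_one' (x := (⟨_, mem_map_of_mem _ h3⟩ : symM S)))
    rw [h1] at this
    rw [pow_add, pow_mul]
    exact this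
  have := h2.isNilpotent
  have h3 : Group.IsNilpotent R := Subgroup.isNilpotent_of_ker_le_center ψ.rangeRestrict fun x hx =>
    mem_center_iff.2 fun y => Subtype.ext (Subtype.ext (y.1.2 _ ((QuotientGroup.eq_one_iff _).1
      (congrArg Subtype.val hx))).symm)
  have h4 : R ≤ (symRho S).ker := fun x hx => by
    rw [symRho_ker]
    exact (Core.map_fittingSubgroup_of_normal _).le (mem_map_of_mem _ (Core.le_fittingSubgroup h3 hx))
  refine eq_bot_iff.2 ?_
  rintro ⟨_, c, rfl⟩ hc
  exact Subtype.ext (h4 (x := c) hc)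

theorem t_cube : S.F.relIndex (centralizer (S.A : Set G)) ≤ S.A.relIndex S.F ^ 3 := by
  let π := QuotientGroup.mk' S.A
  have hπ : Function.Surjective π := QuotientGroup.mk'_surjective _
  have hk : π.ker = S.A := QuotientGroup.ker_mk' _
  obtain ⟨v, hv, hb⟩ := (baseLT_three _).conj (X := G ⧸ S.A) (Nat.lt_succ_self _) trivial (symM S) fun N _ hN => by
      have h1 : S.A ≤ N.comap π := hk.ge.trans (ker_le_comap π N)
      have h2 : N.comap π ≤ S.F :=
        (comap_mono hN).trans (comap_map_eq_self (hk.le.trans PSetup.A_le_F)).le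
      obtain ⟨h3, h4⟩ := PSetup.sup_cent (N.comap π) h1 h2
      refine ⟨(S.F ⊓ centralizer (N.comap π : Set G)).map π, Normal.map inferInstance π hπ,
        eq_bot_iff.2 ?_, ?_⟩
      · rintro _ ⟨hx, w, hw, rfl⟩
        exact hk.ge (h4.le ⟨hx, hw⟩)
      · conv_rhs => rw [symM, ← h3, Subgroup.map_sup, map_comap_eq_self_of_surjective hπ]
  refine (idx_le (β := Fin 3 → symM S) (fun c i => ⟨π c * v i * (π c)⁻¹,
    Normal.conj_mem inferInstance _ (hv i) _⟩) fun a b h => mem_F' S (mul_mem (inv_mem a.2) b.2)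
      (hb _ fun i => ?_)).trans ?_
  · have h4 : π a * v i * (π a)⁻¹ = π b * v i * (π b)⁻¹ := congrArg Subtype.val (congrFun h i)
    change (π a)⁻¹ * π b * v i = v i * ((π a)⁻¹ * π b)
    calc _ = (π a)⁻¹ * (π b * v i * (π b)⁻¹) * π b := by group
      _ = _ := by rw [← h4]; group
  · rw [Nat.card_fun, symM, card_map_mk]
    simp

theorem s_four (h : S.A.relIndex S.F = 4) (hC : centralizer (S.A : Set G) = ⊤) (h24 : S.A.index = 24) :
    Nonempty (G ⧸ S.A ≃* Equiv.Perm (Fin 4)) := by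
  have h1 : Nat.card (symM S) = 4 := (card_map_mk _).trans h
  refine Dickson.nonempty_equiv_S4 h24 fun g hg => ?_
  let ρ : G ⧸ S.A →* Equiv.Perm (symM S) := (MulAut.toPerm _).comp MulAut.conjNormal
  have h2 : ∀ x, ρ x = 1 → x ∈ symM S := fun x hx => by
    obtain ⟨x, rfl⟩ := QuotientGroup.mk_surjective x
    refine mem_map_of_mem _ (mem_F' S (hC.ge trivial) fun m hm => ?_)
    exact (mul_inv_eq_iff_eq_mul.1 (congrArg Subtype.val (DFunLike.congr_fun hx (⟨m, hm⟩ : symM S)) :)).symm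
  have h3 : ∀ n, g ^ n ∈ symM S → 6 ∣ n * 4 := fun n hn => by
    rw [← hg, orderOf_dvd_iff_pow_eq_one, pow_mul, ← h1]
    exact congrArg Subtype.val (pow_card_eq_one' (x := (⟨_, hn⟩ : symM S)))
  rcases sym_perm h1 (ρ g) (by rw [← map_pow, ← hg, pow_orderOf_eq_one, map_one]) with h4 | ⟨h4, h5⟩
  · exact absurd (h3 2 (h2 _ (by rwa [map_pow]))) (by decide)
  · have h6 := h2 (g ^ 3) (by rwa [map_pow])
    refine absurd (h3 1 ?_) (by decide)
    rw [pow_one]
    refine h2 _ (h5 1 ⟨_, h6⟩ (fun e => ?_) (map_one (MulAut.conjNormal g)) (Subtype.ext ?_))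
    · exact absurd (hg ▸ orderOf_dvd_of_pow_eq_one (congrArg Subtype.val e).symm) (by decide)
    · change g * g ^ 3 * g⁻¹ = g ^ 3
      group

end CfsgLib.HK
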